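import Cfsg.Agent.SpecSix.RankTwoOrder

/-!
Rank two, elements of order at most six: no involution centraliser has a non-trivial core.
-/

set_option autoImplicit false
set_option linter.style.haveILetI false

namespace CfsgLib.SpecSix

open Cfsg

universe u

namespace D8Frame

variable {G : Type u} [Group G] [Finite G] {s a : G}

/-- The configuration with a trivial weight does not occur. -/
theorem false_of_weight (F : D8Frame s a) [IsSimpleGroup G] (hna : ¬ IsMulCommutative G) (h : Ord6 G)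
    (hr : PRankLE 2 2 G)
    (hb : ∀ x, x ^ 3 = 1 → Commute x (s * s) → Commute x (s * a) → x = 1) : False := by
  classical
  haveI : Fact (Nat.Prime 2) := ⟨Nat.prime_two⟩
  haveI : Fact (Nat.Prime 3) := ⟨Nat.prime_three⟩
  obtain ⟨W, hW, hWa, hW9, hG⟩ := F.card_eq hna h hb
  obtain ⟨f, f3, f1, f2, fa⟩ := F.exists_cycle h
  have W3 : ∀ x ∈ W, x ^ 3 = 1 := fun x hx => ((hW x).1 hx).1
  have Wz : ∀ x ∈ W, Commute x (s * s) := fun x hx => ((hW x).1 hx).2
  have conjf : ∀ {x v : G}, Commute x v → Commute (f * x * f⁻¹) (f * v * f⁻¹) := fun {x v} hc =>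
    Commute.map hc (MulAut.conj f).toMonoidHom
  have hWf : ∀ x ∈ W, f * x * f⁻¹ ∈ W := fun x hx =>
    (hW _).2 ⟨by rw [conj_pow, W3 x hx, mul_one, mul_inv_cancel], fa ▸ conjf (hWa x hx)⟩
  have back : ∀ x, f * x * f⁻¹ ∈ W → x ∈ W := fun x hx => by
    have h' := hWf _ (hWf _ hx)
    have e : f * (f * (f * x * f⁻¹) * f⁻¹) * f⁻¹ = f ^ 3 * x * (f ^ 3)⁻¹ := by
      simp only [pow_succ, pow_zero, one_mul, mul_inv_rev, mul_assoc]
    rwa [e, f3, one_mul, inv_one, mul_one] at h'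
  have hWca : ∀ x, x ^ 3 = 1 → Commute x a → x ∈ W := fun x x3 hc =>
    back x ((hW _).2 ⟨by rw [conj_pow, x3, mul_one, mul_inv_cancel], fa ▸ conjf hc⟩)
  have hWcza : ∀ x, x ^ 3 = 1 → Commute x (s * s * a) → x ∈ W := fun x x3 hc =>
    back x (hWca _ (by rw [conj_pow, x3, mul_one, mul_inv_cancel]) (f2 ▸ conjf hc))
  -- bounds on centralizers
  have hbound : ∀ y ∈ W, y ≠ 1 → Nat.card ↥(Subgroup.centralizer ({y} : Set G)) ≤ 108 := by
    intro y hy y1
    obtain ⟨R, hR, hRn, -, hle⟩ := F.centralizer_facts h hr (W3 y hy) y1 (Wz y hy) (hWa y hy)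
    have hRW : R ≤ W := by
      refine CfsgLib.FourTransOdd.le_of_four_group (fun x hx => odd_orderOf_of_pow_three (hR x hx).1)
        F.z_sq F.a2 F.za ?_ ?_ ?_ ?_ ?_
      · intro x hx
        have := hRn _ (Wz y hy).symm x hx
        rwa [F.z_inv] at this
      · intro x hx
        have := hRn _ (hWa y hy).symm x hx
        rwa [F.a_inv] at this
      · exact fun x hx hc => (hW x).2 ⟨(hR x hx).1, hc.symm⟩
      · exact fun x hx hc => hWca x (hR x hx).1 hc.symm
      · exact fun x hx hc => hWcza x (hR x hx).1 hc.symm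
    have := Subgroup.card_le_of_le hRW
    omega
  -- the four-group
  have za' : a * (s * s) = s * s * a := F.za.eq.symm
  have e1 : ∀ x, s * s * (s * s * x) = x := fun x => by rw [← mul_assoc, F.z_sq, one_mul]
  have e2 : ∀ x, a * (a * x) = x := fun x => by rw [← mul_assoc, F.a2, one_mul]
  let E : Subgroup G :=
    { carrier := {1, s * s, a, s * s * a}
      one_mem' := Or.inl rfl
      mul_mem' := by
        rintro x y (rfl | rfl | rfl | rfl) (rfl | rfl | rfl | rfl)
        all_goals simp only [Set.mem_insert_iff, Set.mem_singleton_iff]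
        · simp
        · simp
        · simp
        · simp
        · simp
        · exact Or.inl F.z_sq
        · simp
        · exact Or.inr (Or.inr (Or.inl (e1 _)))
        · simp
        · exact Or.inr (Or.inr (Or.inr za'))
        · exact Or.inl F.a2
        · exact Or.inr (Or.inl (by rw [← mul_assoc, za', mul_assoc, F.a2, mul_one]))
        · simp
        · exact Or.inr (Or.inr (Or.inl (by rw [mul_assoc, za', e1])))
        · exact Or.inr (Or.inl (by rw [mul_assoc, F.a2, mul_one]))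
        · exact Or.inl (by rw [← mul_assoc, mul_assoc (s * s) a (s * s), za', e1, F.a2])
      inv_mem' := by
        rintro x (rfl | rfl | rfl | rfl)
        all_goals simp only [Set.mem_insert_iff, Set.mem_singleton_iff]
        · simp
        · exact Or.inr (Or.inl F.z_inv)
        · exact Or.inr (Or.inr (Or.inl F.a_inv))
        · exact Or.inr (Or.inr (Or.inr (by rw [mul_inv_rev, F.a_inv, F.z_inv, za']))) }
  have hEmem : ∀ {x}, x ∈ E ↔ x = 1 ∨ x = s * s ∨ x = a ∨ x = s * s * a := fun {x} => Iff.rfl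
  have hE4 : Nat.card E = 4 := by
    show Nat.card ({1, s * s, a, s * s * a} : Set G) = 4
    have h1 := F.za_order
    have hza1 : s * s * a ≠ 1 := fun e => by rw [e, orderOf_one] at h1; omega
    rw [Nat.card_coe_set_eq, Set.ncard_insert_of_notMem (by
        simp only [Set.mem_insert_iff, Set.mem_singleton_iff, not_or]
        exact ⟨F.z_ne_one.symm, F.a_ne_one.symm, hza1.symm⟩),
      Set.ncard_insert_of_notMem (by
        simp only [Set.mem_insert_iff, Set.mem_singleton_iff, not_or]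
        exact ⟨F.a_ne_z.symm, fun e => F.a_ne_one (mul_eq_left.1 e.symm)⟩),
      Set.ncard_pair (fun e => F.z_ne_one (mul_eq_right.1 e.symm))]
  set CW := Subgroup.centralizer (W : Set G) with hCW
  have hCWy : ∀ y ∈ W, CW ≤ Subgroup.centralizer ({y} : Set G) := fun y hy =>
    Subgroup.centralizer_le (by simpa using hy)
  have hECW : E ≤ CW := fun v hv => Subgroup.mem_centralizer_iff.2 fun x hx => by
    rcases hEmem.1 hv with rfl | rfl | rfl | rfl
    · rw [mul_one, one_mul]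
    · exact (Wz x hx).eq
    · exact (hWa x hx).eq
    · exact ((Wz x hx).mul_right (hWa x hx)).eq
  obtain ⟨S, hS⟩ := (show IsPGroup 3 W from fun x =>
    ⟨1, Subtype.ext (by simpa using W3 x x.2)⟩).exists_le_sylow
  obtain ⟨n, hn⟩ := S.isPGroup'.exists_card_eq
  have h81 : 3 ^ 4 ∣ Nat.card (S : Subgroup G) := S.pow_dvd_card_of_pow_dvd_card (by rw [hG]; norm_num)
  have hn4 : n = 4 := by
    rw [hn] at h81
    have h1 := (Nat.pow_dvd_pow_iff_le_right (by norm_num)).1 h81
    by_contra hne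
    have h2 : 3 ^ 5 ∣ 81000 := hG ▸ ((pow_dvd_pow 3 (by omega : 5 ≤ n)).trans
      (hn ▸ (S : Subgroup G).card_subgroup_dvd_card))
    norm_num at h2
  rw [hn4] at hn
  haveI : Nontrivial ↥(S : Subgroup G) := Finite.one_lt_card_iff_nontrivial.1 (by rw [hn]; norm_num)
  haveI := S.isPGroup'.center_nontrivial
  obtain ⟨c₀, hc₀⟩ := exists_ne (1 : Subgroup.center (S : Subgroup G))
  obtain ⟨c, hc⟩ : ∃ c : G, c = ((c₀ : (S : Subgroup G)) : G) := ⟨_, rfl⟩
  have hc1 : c ≠ 1 := fun e => hc₀ (Subtype.ext (Subtype.ext (hc ▸ e)))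
  have hcc : ∀ x ∈ (S : Subgroup G), Commute x c := fun x hx =>
    hc ▸ congrArg Subtype.val (Subgroup.mem_center_iff.1 c₀.2 ⟨x, hx⟩)
  have hcS : c ∈ (S : Subgroup G) := hc ▸ (c₀ : (S : Subgroup G)).2
  have hcW : c ∉ W := fun hm => by
    have h1 : 81 ∣ Nat.card ↥(Subgroup.centralizer ({c} : Set G)) := by
      rw [show 81 = 3 ^ 4 from rfl, ← hn]
      exact Subgroup.card_dvd_of_le fun x hx =>
        Subgroup.mem_centralizer_singleton_iff.2 (hcc x hx)
    have h2 : 4 ∣ Nat.card ↥(Subgroup.centralizer ({c} : Set G)) :=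
      hE4 ▸ Subgroup.card_dvd_of_le (hECW.trans (hCWy c hm))
    have h3 : 324 ∣ Nat.card ↥(Subgroup.centralizer ({c} : Set G)) :=
      Nat.Coprime.mul_dvd_of_dvd_of_dvd (by norm_num : Nat.Coprime 81 4) h1 h2
    have := Nat.le_of_dvd Nat.card_pos h3
    have := hbound c hm hc1
    omega
  obtain ⟨L, hL⟩ : ∃ L, L = (S : Subgroup G) ⊓ CW := ⟨_, rfl⟩
  have hLS : L ≤ (S : Subgroup G) := hL ▸ inf_le_left
  have hWcomm : ∀ x ∈ W, ∀ y ∈ W, Commute x y := fun x hx y hy =>
    F.core_comm h (W3 x hx) (Wz x hx) (W3 y hy) (Wz y hy)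
  have hWL : W ≤ L := hL ▸ le_inf hS fun x hx =>
    Subgroup.mem_centralizer_iff.2 fun y hy => (hWcomm y hy x hx).eq
  have hcL : c ∈ L := hL ▸ ⟨hcS, Subgroup.mem_centralizer_iff.2 fun y hy => (hcc y (hS hy)).eq⟩
  obtain ⟨l, hl4, hl⟩ := (Nat.dvd_prime_pow Nat.prime_three).1 (hn ▸ Subgroup.card_dvd_of_le hLS)
  have hl3 : 3 ≤ l := by
    have hlt : Nat.card W < Nat.card L := by
      refine lt_of_le_of_ne (Subgroup.card_le_of_le hWL) fun e => hcW ?_
      exact (Subgroup.eq_of_le_of_card_ge hWL e.ge).ge hcL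
    rw [hW9, hl] at hlt
    by_contra hl'
    have : 3 ^ l ≤ 3 ^ 2 := Nat.pow_le_pow_right (by norm_num) (by omega)
    omega
  have hCW108 : 108 ∣ Nat.card CW := by
    have h1 : 27 ∣ Nat.card CW := ((pow_dvd_pow 3 hl3).trans (dvd_of_eq hl.symm)).trans
      (Subgroup.card_dvd_of_le (hL ▸ inf_le_right))
    have h2 : 4 ∣ Nat.card CW := hE4 ▸ Subgroup.card_dvd_of_le hECW
    exact Nat.Coprime.mul_dvd_of_dvd_of_dvd (by norm_num : Nat.Coprime 27 4) h1 h2
  have hceq : ∀ y ∈ W, y ≠ 1 → Subgroup.centralizer ({y} : Set G) = CW := fun y hy y1 =>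
    (Subgroup.eq_of_le_of_card_ge (hCWy y hy)
      ((hbound y hy y1).trans (Nat.le_of_dvd Nat.card_pos hCW108))).symm
  obtain ⟨y₀, hy₀, hy₀1⟩ : ∃ y ∈ W, y ≠ 1 := by
    by_contra hh
    simp only [not_exists, not_and, not_not] at hh
    rw [(Subgroup.eq_bot_iff_forall W).2 hh, Subgroup.card_bot] at hW9
    norm_num at hW9
  have hCWcard : Nat.card CW = 108 :=
    le_antisymm (hceq y₀ hy₀ hy₀1 ▸ hbound y₀ hy₀ hy₀1) (Nat.le_of_dvd Nat.card_pos hCW108)
  have hl' : l = 3 := by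
    by_contra hne
    have h2 : 3 ^ 4 ∣ 108 := hCWcard ▸ ((pow_dvd_pow 3 (by omega : 4 ≤ l)).trans
      ((dvd_of_eq hl.symm).trans (Subgroup.card_dvd_of_le (hL ▸ inf_le_right))))
    norm_num at h2
  rw [hl'] at hl
  haveI hLn : (L.subgroupOf (S : Subgroup G)).Normal := by
    refine Subgroup.normal_of_index_eq_minFac_card ?_
    have h1 := (L.subgroupOf (S : Subgroup G)).card_mul_index
    rw [Nat.card_congr (Subgroup.subgroupOfEquivOfLe hLS).toEquiv, hl, hn] at h1
    rw [hn, Nat.pow_minFac (by norm_num), Nat.prime_three.minFac_eq]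
    omega
  obtain ⟨g, hgS, hgL⟩ : ∃ g ∈ (S : Subgroup G), g ∉ L := by
    by_contra hh
    simp only [not_exists, not_and, not_not] at hh
    have := Subgroup.card_le_of_le hh
    rw [hn, hl] at this
    norm_num at this
  have hgL' : ∀ x ∈ L, g * x * g⁻¹ ∈ L := fun x hx =>
    Subgroup.mem_subgroupOf.1 (hLn.conj_mem ⟨x, hLS hx⟩ (Subgroup.mem_subgroupOf.2 hx) ⟨g, hgS⟩)
  obtain ⟨y, hy, y1, hgy⟩ : ∃ y ∈ W, y ≠ 1 ∧ g * y * g⁻¹ ∈ W := by
    by_contra hh
    simp only [not_exists, not_and] at hh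
    let φ : W × W → L := fun p =>
      ⟨(p.1 : G) * (g * p.2 * g⁻¹), mul_mem (hWL p.1.2) (hgL' _ (hWL p.2.2))⟩
    have hφ : Function.Injective φ := by
      rintro ⟨⟨p1, hp1⟩, p2, hp2⟩ ⟨⟨q1, hq1⟩, q2, hq2⟩ e
      have e : p1 * (g * p2 * g⁻¹) = q1 * (g * q2 * g⁻¹) := congrArg Subtype.val e
      have ed : g * (q2 * p2⁻¹) * g⁻¹ = q1⁻¹ * p1 := by
        calc g * (q2 * p2⁻¹) * g⁻¹ = q1⁻¹ * (q1 * (g * q2 * g⁻¹)) * (g * p2 * g⁻¹)⁻¹ := by group
          _ = q1⁻¹ * p1 := by rw [← e]; group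
      have h1 : q2 * p2⁻¹ = 1 := Classical.byContradiction fun h1 =>
        hh _ (mul_mem hq2 (inv_mem hp2)) h1 (ed ▸ mul_mem (inv_mem hq1) hp1)
      rw [h1, mul_one, mul_inv_cancel] at ed
      obtain rfl : q1 = p1 := inv_mul_eq_one.1 ed.symm
      obtain rfl : q2 = p2 := mul_inv_eq_one.1 h1
      rfl
    have := Nat.card_le_card_of_injective φ hφ
    rw [Nat.card_prod, hW9, hl] at this
    norm_num at this
  have hg1 : g * y * g⁻¹ ≠ 1 := fun e => y1 (conj_eq_one_iff.1 e)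
  have hgCW : ∀ x ∈ CW, g * x * g⁻¹ ∈ CW := fun x hx => by
    have hx' : x ∈ Subgroup.centralizer ({y} : Set G) := hCWy y hy hx
    rw [← hceq _ hgy hg1]
    exact Subgroup.mem_centralizer_singleton_iff.2
      (Commute.map (Subgroup.mem_centralizer_singleton_iff.1 hx') (MulAut.conj g).toMonoidHom).eq
  -- Frattini
  have hgE : E.map (MulAut.conj g).toMonoidHom ≤ CW := by
    rintro _ ⟨v, hv, rfl⟩
    exact hgCW v (hECW hv)
  have syl_eq : ∀ T : Subgroup G, T ≤ CW → Nat.card T = 4 →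
      ∃ R : Sylow 2 CW, T.subgroupOf CW = (R : Subgroup CW) := by
    intro T hT h4
    have hc4 : Nat.card (T.subgroupOf CW) = 2 ^ 2 := by
      rw [Nat.card_congr (Subgroup.subgroupOfEquivOfLe hT).toEquiv, h4]; rfl
    obtain ⟨R, hR⟩ := (IsPGroup.of_card hc4).exists_le_sylow
    refine ⟨R, Subgroup.eq_of_le_of_card_ge hR ?_⟩
    obtain ⟨r, hr⟩ := R.isPGroup'.exists_card_eq
    rw [hc4, hr]
    refine Nat.pow_le_pow_right (by norm_num) ?_
    by_contra hc'
    have h2 : 2 ^ 3 ∣ 108 := hCWcard ▸ ((pow_dvd_pow 2 (by omega : 3 ≤ r)).trans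
      (hr ▸ (R : Subgroup CW).card_subgroup_dvd_card))
    norm_num at h2
  obtain ⟨R1, hR1⟩ := syl_eq E hECW hE4
  obtain ⟨R2, hR2⟩ := syl_eq _ hgE
    (by rw [Subgroup.card_map_of_injective (MulAut.conj g).injective, hE4])
  obtain ⟨k, hk⟩ := MulAction.exists_smul_eq CW R1 R2
  have hconj : ∀ v ∈ E, (k : G)⁻¹ * (g * v * g⁻¹) * (k : G) ∈ E := by
    intro v hv
    have hm : (⟨g * v * g⁻¹, hgCW v (hECW hv)⟩ : CW) ∈ (R2 : Subgroup CW) := by
      rw [← hR2]; exact ⟨v, hv, rfl⟩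
    rw [← hk, Sylow.coe_subgroup_smul, Subgroup.mem_pointwise_smul_iff_inv_smul_mem, ← hR1,
      Subgroup.mem_subgroupOf] at hm
    simpa only [← map_inv, MulAut.smul_def, MulAut.conj_apply, inv_inv, Subgroup.coe_mul,
      Subgroup.coe_inv] using hm
  have hgW : ∀ x ∈ W, g * x * g⁻¹ ∈ W := by
    intro x hx
    obtain ⟨n', hn'⟩ : ∃ n', n' = (k : G)⁻¹ * g := ⟨_, rfl⟩
    have hm : n' * (s * s) * n'⁻¹ ∈ E := by
      have := hconj _ (hEmem.2 (Or.inr (Or.inl rfl)))
      rw [hn']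
      rwa [show (k : G)⁻¹ * g * (s * s) * ((k : G)⁻¹ * g)⁻¹ =
        (k : G)⁻¹ * (g * (s * s) * g⁻¹) * (k : G) by group]
    have hcx : Commute (n' * x * n'⁻¹) (n' * (s * s) * n'⁻¹) :=
      Commute.map (Wz x hx) (MulAut.conj n').toMonoidHom
    have hx3 : (n' * x * n'⁻¹) ^ 3 = 1 := by rw [conj_pow, W3 x hx, mul_one, mul_inv_cancel]
    have hmW : n' * x * n'⁻¹ ∈ W := by
      rcases hEmem.1 hm with e | e | e | e
      · exact absurd (conj_eq_one_iff.1 e) F.z_ne_one
      · exact (hW _).2 ⟨hx3, e ▸ hcx⟩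
      · exact hWca _ hx3 (e ▸ hcx)
      · exact hWcza _ hx3 (e ▸ hcx)
    have hkc : (k : G) * (n' * x * n'⁻¹) * (k : G)⁻¹ = n' * x * n'⁻¹ := by
      rw [(Subgroup.mem_centralizer_iff.1 k.2 _ hmW).symm, mul_inv_cancel_right]
    rw [hn'] at hkc hmW
    rw [← hkc] at hmW
    convert hmW using 1
    group
  have g3 : g ^ 3 = 1 := by
    obtain ⟨r, hr⟩ := S.isPGroup' ⟨g, hgS⟩
    obtain ⟨r', -, hr'⟩ := (Nat.dvd_prime_pow Nat.prime_three).1
      (orderOf_dvd_of_pow_eq_one (congrArg Subtype.val hr : g ^ 3 ^ r = 1))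
    have h6 := h.orderOf_le g
    refine orderOf_dvd_iff_pow_eq_one.1 ?_
    rw [hr'] at h6 ⊢
    refine (pow_dvd_pow 3 ?_).trans (dvd_of_eq (pow_one 3))
    by_contra hc'
    have : 3 ^ 2 ≤ 3 ^ r' := Nat.pow_le_pow_right (by norm_num) (by omega)
    omega
  obtain ⟨u, hu, hgu⟩ := SpecFive.exists_fixed Nat.prime_three g3 ((W : Set G) \ {1})
    (fun x hx => ⟨hgW x hx.1, fun e => hx.2 (conj_eq_one_iff.1 e)⟩) (by
      rw [Nat.card_coe_set_eq, Set.ncard_sdiff_singleton_of_mem (one_mem W), ← Nat.card_coe_set_eq]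
      change ¬ 3 ∣ Nat.card W - 1
      rw [hW9]; norm_num)
  refine hgL (hL ▸ ⟨hgS, ?_⟩)
  rw [← hceq u hu.1 hu.2]
  exact Subgroup.mem_centralizer_singleton_iff.2 hgu.eq

end D8Frame

/-- Rank two: the cores of the centralizers of involutions are trivial. -/
theorem false_of_rankTwo_core {G : Type u} [Group G] [Finite G] [IsSimpleGroup G]
    (hna : ¬ IsMulCommutative G) (h : Ord6 G) (h4 : ∃ g : G, orderOf g = 4)
    (hr : Cfsg.PRankLE 2 2 G)
    (hW : ∃ t : G, orderOf t = 2 ∧ Cfsg.oddCore ↥(Subgroup.centralizer ({t} : Set G)) ≠ ⊥) :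
    False := by
  haveI : Fact (Nat.Prime 2) := ⟨Nat.prime_two⟩
  have hiso : ∀ P : Sylow 2 G, Nonempty ((P : Subgroup G) ≃* DihedralGroup 4) :=
    exists_dihedral_eight hna h h4 hr hW
  obtain ⟨P⟩ : Nonempty (Sylow 2 G) := inferInstance
  have hres : pResidual 2 G = ⊤ := by
    haveI : (pResidual 2 G).Normal := ⟨fun x hx g => by
      induction hx using Subgroup.closure_induction with
      | mem x hx =>
        refine Subgroup.subset_closure ?_
        show Nat.Coprime (orderOf (g * x * g⁻¹)) 2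
        rw [show g * x * g⁻¹ = MulAut.conj g x from rfl, MulEquiv.orderOf_eq]
        exact hx
      | one => simp [one_mem]
      | mul x y _ _ ex ey =>
        rw [show g * (x * y) * g⁻¹ = g * x * g⁻¹ * (g * y * g⁻¹) by group]
        exact mul_mem ex ey
      | inv x _ ex =>
        rw [show g * x⁻¹ * g⁻¹ = (g * x * g⁻¹)⁻¹ by group]
        exact inv_mem ex⟩
    refine ((inferInstance : (pResidual 2 G).Normal).eq_bot_or_eq_top).resolve_left fun hb => ?_
    obtain ⟨t, ht, hne⟩ := hW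
    obtain ⟨x, hx1⟩ := Subgroup.ne_bot_iff_exists_ne_one.1 hne
    have hodd := odd_of_mem_oddCore x.2
    have hm : ((x : ↥(Subgroup.centralizer ({t} : Set G))) : G) ∈ pResidual 2 G :=
      Subgroup.subset_closure (Nat.coprime_two_right.2 (by
        show Odd (orderOf _)
        rwa [Subgroup.orderOf_coe]))
    rw [hb, Subgroup.mem_bot] at hm
    exact hx1 (Subtype.ext (Subtype.ext hm))
  have hconj : ∀ x y : G, orderOf x = 2 → orderOf y = 2 → ∃ g : G, g * x * g⁻¹ = y := fun x y =>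
    Cfsg.Agent.S0107.result P 2 le_rfl (hiso P) hres x y
  have hcore : ∀ t : G, orderOf t = 2 → ∃ x : G, x ^ 3 = 1 ∧ Commute x t ∧ x ≠ 1 := by
    intro t ht
    obtain ⟨t₀, ht₀, hne⟩ := hW
    obtain ⟨x, hx1⟩ := Subgroup.ne_bot_iff_exists_ne_one.1 hne
    have hc := commute_of_mem_oddCore x.2
    have h3 := pow_three_of_odd_of_commute h ht₀
      (by rw [Subgroup.orderOf_coe]; exact odd_of_mem_oddCore x.2) hc
    obtain ⟨g, rfl⟩ := hconj t₀ t ht₀ ht
    exact ⟨g * _ * g⁻¹, by rw [conj_pow, h3, mul_one, mul_inv_cancel],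
      Commute.map hc (MulAut.conj g).toMonoidHom,
      fun e => hx1 (Subtype.ext (Subtype.ext (conj_eq_one_iff.1 e)))⟩
  obtain ⟨e⟩ := hiso P
  obtain ⟨s, hs⟩ : ∃ s : G, s = ((e.symm (DihedralGroup.r 1) : (P : Subgroup G)) : G) := ⟨_, rfl⟩
  obtain ⟨a, ha⟩ : ∃ a : G, a = ((e.symm (DihedralGroup.sr 0) : (P : Subgroup G)) : G) := ⟨_, rfl⟩
  have F : D8Frame s a :=
    { os := by rw [hs, Subgroup.orderOf_coe, MulEquiv.orderOf_eq, DihedralGroup.orderOf_r_one]
      a2 := by
        rw [ha, ← Subgroup.coe_mul, ← map_mul, DihedralGroup.sr_mul_self, map_one, Subgroup.coe_one]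
      conj := by
        rw [hs, ha, ← Subgroup.coe_inv, ← Subgroup.coe_inv, ← Subgroup.coe_mul, ← Subgroup.coe_mul,
          ← map_inv, ← map_inv, ← map_mul, ← map_mul]
        congr 2
      syl := ⟨P, le_antisymm ((Subgroup.closure_le _).2 (by
          rintro x (rfl | rfl)
          · rw [hs]; exact (e.symm _).2
          · rw [ha]; exact (e.symm _).2)) fun x hx => by
          have key : ∀ d : DihedralGroup 4,
              ((e.symm d : (P : Subgroup G)) : G) ∈ Subgroup.closure ({s, a} : Set G) := by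
            have hr' : ∀ i : ZMod 4, ((e.symm (DihedralGroup.r i) : (P : Subgroup G)) : G) ∈
                Subgroup.closure ({s, a} : Set G) := fun i => by
              rw [show DihedralGroup.r i = DihedralGroup.r 1 ^ i.val by
                rw [DihedralGroup.r_one_pow, ZMod.natCast_zmod_val], map_pow, Subgroup.coe_pow, ← hs]
              exact Subgroup.pow_mem _ (Subgroup.subset_closure (show s ∈ ({s, a} : Set G) from Or.inl rfl)) _
            rintro (i | i)
            · exact hr' i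
            · rw [show DihedralGroup.sr i = DihedralGroup.sr 0 * DihedralGroup.r i by
                rw [DihedralGroup.sr_mul_r, zero_add], map_mul, Subgroup.coe_mul, ← ha]
              exact mul_mem (Subgroup.subset_closure (Or.inr rfl)) (hr' i)
          simpa using key (e ⟨x, hx⟩)⟩
      iso := hiso
      inv_conj := hconj
      core_ne := hcore }
  rcases F.weight_cases h hr with hb | hb
  · exact F.false_of_weight hna h hr hb
  · refine F.flip.false_of_weight hna h hr fun x x3 xz xb => hb x x3 xz ?_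
    have e : a = s * s * (s * (s * a)) := by
      rw [← mul_assoc s s a, ← mul_assoc, F.z_sq, one_mul]
    exact e.symm ▸ xz.mul_right xb

end CfsgLib.SpecSix
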