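import Cfsg.Agent.SpecSix.Defs
import Cfsg.Agent.Amalgam.SThreeBound

/-!
A bad pair of parabolic subgroups with top `S₃` in a group with element orders at most six.
-/

set_option autoImplicit false
set_option linter.unusedSectionVars false
set_option linter.unusedVariables false
set_option maxHeartbeats 800000

open Cfsg
open scoped commutatorElement Pointwise

namespace CfsgLib.SpecSix

open CfsgLib.Amalgam
open CfsgLib.SpecFive (Elem)

universe u

section Central

variable {X : Type u} [Group X] {M₁ M₂ : Subgroup X}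

theorem sq_triple {a b c r : X} (ha : a * a = 1) (hb : b * b = 1) (hc : c * c = 1)
    (hr : r * r = 1) (hba : b * a = a * b * r) (hca : c * a = a * c * r) (hcb : c * b = b * c * r)
    (cra : r * a = a * r) (crb : r * b = b * r) (crc : r * c = c * r) :
    a * b * c * (a * b * c) = r := by
  calc a * b * c * (a * b * c) = a * b * (c * a) * b * c := by group
    _ = a * b * (a * c * r) * b * c := by rw [hca]
    _ = a * (b * a) * c * (r * b) * c := by group
    _ = a * (b * a) * c * (b * r) * c := by rw [crb]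
    _ = a * (b * a) * (c * b) * (r * c) := by group
    _ = a * (a * b * r) * (b * c * r) * (c * r) := by rw [hba, hcb, crc]
    _ = (a * a) * b * (r * b) * c * (r * c) * r := by group
    _ = (a * a) * b * (b * r) * c * (c * r) * r := by rw [crb, crc]
    _ = (a * a) * (b * b) * (r * c) * c * (r * r) := by group
    _ = (a * a) * (b * b) * (c * r) * c * (r * r) := by rw [crc]
    _ = (a * a) * (b * b) * c * (r * c) * (r * r) := by group
    _ = (a * a) * (b * b) * c * (c * r) * (r * r) := by rw [crc]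
    _ = r := by rw [ha, hb, hr, one_mul, one_mul, mul_one, ← mul_assoc, hc, one_mul]

theorem rot_triple {a b c r : X} (ha : a * a = 1) (hr : r * r = 1) (hba : b * a = a * b * r)
    (hca : c * a = a * c * r) (cra : r * a = a * r) (crc : r * c = c * r) :
    b * c * a = a * b * c := by
  calc b * c * a = b * (c * a) := by group
    _ = b * (a * c * r) := by rw [hca]
    _ = b * a * c * r := by group
    _ = a * b * (r * c) * r := by rw [hba]; group
    _ = a * b * (c * r) * r := by rw [crc]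
    _ = a * b * c * (r * r) := by group
    _ = a * b * c := by rw [hr, mul_one]

theorem swap_of_comm {r t : X} (hr : r * r = 1) (ht : t * t = 1) (hc : ⁅r, t⁆ * ⁅r, t⁆ = 1) :
    t * r = r * t * ⁅r, t⁆ := by
  rw [commutatorElement_def, inv_eq_of_mul_eq_one_right hr, inv_eq_of_mul_eq_one_right ht] at hc ⊢
  calc t * r = r * t * r * t * (r * t * r * t) * (t * r) := by rw [hc, one_mul]
    _ = r * t * r * t * r * t * r * (t * t) * r := by group
    _ = r * t * (r * t * r * t) * (r * r) := by rw [ht, mul_one]; group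
    _ = r * t * (r * t * r * t) := by rw [hr, mul_one]

variable (h : SThreeCentral M₁ M₂) [hp : Fact (Nat.Prime 2)]

include h

theorem two_comm_rel {p : ℕ → CosetVertex M₁ M₂} (c : ACrit 2 p) (hk : KOne M₁ M₂)
    {v u w : CosetVertex M₁ M₂} (hu : (cosetGraph M₁ M₂).Adj v u) (hw : (cosetGraph M₁ M₂).Adj v w)
    (hne : u ≠ w) (hB : IsB v) {s s' r : X} (hs : s ∈ vertexZ 2 u) (hsn : s ∉ vertexZ 2 v)
    (hs' : s' ∈ vertexZ 2 w) (hsn' : s' ∉ vertexZ 2 v) (hr : r ∈ vertexZ 2 v) (hr1 : r ≠ 1) :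
    s * s' = s' * s * r := by
  have hAu := isA_of_adj hu hB
  have hAw := isA_of_adj hw hB
  have hsQv : s ∈ vertexQ 2 v := c.near u v hAu (by
    have := SimpleGraph.dist_eq_one_iff_adj.2 hu.symm; omega) hs
  have hsE : s ∈ edgeStabilizer w v := h.Q_le_edge' hw hsQv
  have hsQ : s ∉ vertexQ 2 w := by
    intro hh
    refine h.two_noncomm c hu hw hne hB fun z hz => ?_
    by_cases hzv : z ∈ vertexZ 2 v
    · exact h.Z_le_Q w (h.ZB_le hw hB hzv)
    have h1 := h.Z_le_Q w (h.ZB_le hw hB (h.ZA_coset hk hu.symm hAu hz hs hzv hsn))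
    have e : z = z * s * s := by rw [mul_assoc, h.Z_sq hs, mul_one]
    rw [e]
    exact mul_mem h1 hh
  have hconj : s * s' * s⁻¹ ∈ vertexZ 2 w := h.Z_conj_stab hsE.1 hs'
  have hconjn : s * s' * s⁻¹ ∉ vertexZ 2 v := fun hh => hsn' (by
    have := h.Z_conj_stab (inv_mem hsE.2) hh
    simpa [mul_assoc] using this)
  have hm := h.ZA_coset hk hw.symm hAw hs' hconj hsn' hconjn
  have hm1 : s' * (s * s' * s⁻¹) ≠ 1 := by
    intro e
    rw [mul_eq_one_iff_inv_eq, h.Z_inv hs', eq_mul_inv_iff_mul_eq] at e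
    exact hsn' (h.cent_eq hw.symm hAw hsE hsQ hs' e.symm)
  have e := hk v hB r hr _ hm hr1 hm1
  have hsr : r * s = s * r := (h.ZB_commute hB hr hsE.2).symm
  calc s * s' = s' * (s' * (s * s' * s⁻¹)) * s := by
        rw [← mul_assoc s', h.Z_sq hs', one_mul, inv_mul_cancel_right]
    _ = s' * r * s := by rw [← e]
    _ = s' * s * r := by rw [mul_assoc, hsr, ← mul_assoc]

theorem two_false (hord : Ord6 X) {p : ℕ → CosetVertex M₁ M₂} (c : ACrit 2 p) (hk : KOne M₁ M₂) :
    False := by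
  obtain ⟨v, u, hu, hB⟩ : ∃ v u, (cosetGraph M₁ M₂).Adj v u ∧ IsB v :=
    ⟨p 1, p 0, (c.adj 0 (by omega)).symm, isB_of_adj (c.adj 0 (by omega)) c.start⟩
  obtain ⟨d, hd, hd3⟩ := h.toSThreePair.exists_order_three (δ := v)
    (N := MulAction.stabilizer X v) le_rfl (fun g hg x hx => mul_mem (mul_mem hg hx) (inv_mem hg))
    (fun hle => by
      obtain ⟨g, hg, hgQ⟩ := h.toSThreePair.exists_edge_not_Q hu
      exact hgQ (hle hg.1))
  have hd3' : d ^ 3 = 1 := by rw [← hd3, pow_orderOf_eq_one]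
  have hdu : d • u ≠ u := fun e =>
    h.toSThreePair.order_three_notMem_edge hu hd3 ⟨hd, MulAction.mem_stabilizer_iff.2 e⟩
  have hddd : d • d • d • u = u := by
    rw [smul_smul, smul_smul, show d * d * d = d ^ 3 by rw [pow_succ, pow_two], hd3', one_smul]
  have hddu : d • d • u ≠ u := fun e => hdu (by
    have := hddd
    rwa [e] at this)
  obtain ⟨a, ha, han⟩ := h.exists_mem_notMem hu.symm (isA_of_adj hu hB)
  obtain ⟨r, hr, hr1⟩ := h.ZB_exists hB
  set b := d * a * d⁻¹ with hb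
  set c' := d * b * d⁻¹ with hc'
  have hu' := SThreePair.adj_of_mem_stabilizer hd hu
  have hu'' := SThreePair.adj_of_mem_stabilizer hd hu'
  have hbm : b ∈ vertexZ 2 (d • u) := h.Z_conj ha
  have hcm : c' ∈ vertexZ 2 (d • d • u) := h.Z_conj hbm
  have hnot : ∀ y, y ∉ vertexZ 2 v → d * y * d⁻¹ ∉ vertexZ 2 v := fun y hy hh => hy (by
    have := h.Z_conj_stab (inv_mem hd) hh
    simpa [mul_assoc] using this)
  have hbn : b ∉ vertexZ 2 v := hnot a han
  have hcn : c' ∉ vertexZ 2 v := hnot b hbn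
  have hba := two_comm_rel h c hk hu' hu hdu hB hbm hbn ha han hr hr1
  have hca := two_comm_rel h c hk hu'' hu hddu hB hcm hcn ha han hr hr1
  have hcb := two_comm_rel h c hk hu'' hu' (fun e => hdu (MulAction.injective d e)) hB hcm hcn hbm
    hbn hr hr1
  have hst : ∀ w y, (cosetGraph M₁ M₂).Adj v w → y ∈ vertexZ 2 w → y * r = r * y := fun w y hw hy =>
    (h.Z_commute_Q (h.ZB_le hw hB hr) (h.Z_le_Q w hy))
  have cra := (hst u a hu ha).symm
  have crb := (hst _ b hu' hbm).symm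
  have crc := (hst _ c' hu'' hcm).symm
  have hsq : a * b * c' * (a * b * c') = r :=
    sq_triple (h.Z_sq ha) (h.Z_sq hbm) (h.Z_sq hcm) (h.Z_sq hr) hba hca hcb cra crb crc
  have hrot := rot_triple (b := b) (c := c') (h.Z_sq ha) (h.Z_sq hr) hba hca cra crc
  have hca' : d * c' * d⁻¹ = a := by
    rw [hc', hb, show d * (d * (d * a * d⁻¹) * d⁻¹) * d⁻¹ = d ^ 3 * a * (d ^ 3)⁻¹ by simp [pow_succ, mul_assoc], hd3']
    group
  have hcomm : Commute d (a * b * c') := by
    show d * (a * b * c') = a * b * c' * d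
    calc d * (a * b * c') = (d * a * d⁻¹) * (d * b * d⁻¹) * (d * c' * d⁻¹) * d := by group
      _ = b * c' * a * d := by rw [← hb, ← hc', hca']
      _ = a * b * c' * d := by rw [hrot]
  have h6 := hord.commute_three hd3' (fun e => by rw [e, orderOf_one] at hd3; omega) hcomm
  apply hr1
  have h2 : (a * b * c') ^ 2 = r := by rw [pow_two, hsq]
  calc r = r * r * r := by rw [h.Z_sq hr, one_mul]
    _ = (a * b * c') ^ 6 := by rw [show (6 : ℕ) = 2 * 3 from rfl, pow_mul, h2, pow_succ, pow_two]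
    _ = 1 := h6

theorem three_false (hord : Ord6 X) {p : ℕ → CosetVertex M₁ M₂} (c : ACrit 3 p) (hk : KOne M₁ M₂)
    (hS : SumRel M₁ M₂) : False := by
  have hA : IsA (p 0) := c.start
  have hv₁ := c.adj 0 (by omega)
  set a := p 0 with hadef
  set v₁ := p (0 + 1) with hv1def
  obtain ⟨v₂, hv₂, h21⟩ := h.toSThreePair.exists_other hv₁
  obtain ⟨v₃, hv₃, h31, h32⟩ := h.toSThreePair.exists_third hv₁ v₂
  have hB₁ := isB_of_adj hv₁ hA
  have hB₂ := isB_of_adj hv₂ hA
  obtain ⟨u, hu, hua⟩ := h.toSThreePair.exists_other hv₁.symm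
  have hAu := isA_of_adj hu hB₁
  obtain ⟨v', hv', hv'1⟩ := h.toSThreePair.exists_other hu.symm
  obtain ⟨v'', hv'', hv''1, hv''2⟩ := h.toSThreePair.exists_third hu.symm v'
  have hB' := isB_of_adj hv' hAu
  have hB'' := isB_of_adj hv'' hAu
  obtain ⟨n', hn', hn'u⟩ := h.toSThreePair.exists_other hv'.symm
  obtain ⟨n'', hn'', hn''u⟩ := h.toSThreePair.exists_other hv''.symm
  obtain ⟨t, ht, htn⟩ := h.exists_mem_notMem hn'.symm (isA_of_adj hn' hB')
  obtain ⟨t', ht', htn'⟩ := h.exists_mem_notMem hn''.symm (isA_of_adj hn'' hB'')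
  obtain ⟨r, hr, hr1⟩ := h.exists_mem_notMem hv₁ hA
  have htQu : t ∈ vertexQ 2 u := h.nbrZ_le_Q c (le_refl 3) hB' hv'.symm (le_nbrZ hn' ht)
  have htQu' : t' ∈ vertexQ 2 u := h.nbrZ_le_Q c (le_refl 3) hB'' hv''.symm (le_nbrZ hn'' ht')
  have hrQu : r ∈ vertexQ 2 u := h.nbrZ_le_Q c (le_refl 3) hB₁ hu (le_nbrZ hv₁.symm hr)
  have htt : t * t' ∈ vertexQ 2 v₁ := h.toSThreePair.mul_mem_Q hu (h.Q_le_edge' hu.symm htQu)
    (h.Q_le_edge' hu.symm htQu') (h.rep_notMem_Q hk hS c hAu hv' hu.symm hv'1 hn' hn'u ht htn)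
    (h.rep_notMem_Q hk hS c hAu hv'' hu.symm hv''1 hn'' hn''u ht' htn')
  have hrQ : r ∈ vertexQ 2 v₁ := c.near a v₁ hA (by
    have := SimpleGraph.dist_eq_one_iff_adj.2 hv₁; omega) hr
  set x := r * (t * t') with hxdef
  have hxQ₁ : x ∈ vertexQ 2 v₁ := mul_mem hrQ htt
  have hxE : x ∈ edgeStabilizer a v₁ := h.Q_le_edge' hv₁.symm hxQ₁
  -- the three commutators
  obtain ⟨m1, n1⟩ := h.comm_reps hk hS c hAu hu.symm hv' hv'1.symm hv₁.symm hua.symm hn' hn'u hr hr1
    ht htn hv'' hv''1 hv''2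
  obtain ⟨m2, n2⟩ := h.comm_reps hk hS c hAu hu.symm hv'' hv''1.symm hv₁.symm hua.symm hn'' hn''u
    hr hr1 ht' htn' hv' hv'1 hv''2.symm
  obtain ⟨m3, n3⟩ := h.comm_reps hk hS c hAu hv' hv'' hv''2.symm hn' hn'u hn'' hn''u ht htn ht' htn'
    hu.symm hv'1.symm hv''1.symm
  set c1 := ⁅r, t⁆ with hc1
  set c2 := ⁅r, t'⁆ with hc2
  set c3 := ⁅t, t'⁆ with hc3
  have u1 := h.ZB_le hv''.symm hB'' m1
  have u2 := h.ZB_le hv'.symm hB' m2
  have u3 := h.ZB_le hu hB₁ m3
  -- their product is trivial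
  obtain ⟨y, hy, y', hy', e3⟩ := h.ZA_decomp hv' hv'' hAu hv''2.symm u3
  have hy1 : y ≠ 1 := fun e1 =>
    n3 (h.inf_eq hv'' hu.symm hAu hv''1 (by rw [← e3, e1, one_mul]; exact hy') m3)
  have hy1' : y' ≠ 1 := fun e1 =>
    n3 (h.inf_eq hv' hu.symm hAu hv'1 (by rw [← e3, e1, mul_one]; exact hy) m3)
  rw [hk v' hB' y hy c2 m2 hy1 n2, hk v'' hB'' y' hy' c1 m1 hy1' n1] at e3
  -- moving `r` and `t` to the left
  have f1 : t * r = r * t * c1 := swap_of_comm (h.Z_sq hr) (h.Z_sq ht) (h.Z_sq u1)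
  have f2 : t' * r = r * t' * c2 := swap_of_comm (h.Z_sq hr) (h.Z_sq ht') (h.Z_sq u2)
  have f3 : t' * t = t * t' * c3 := swap_of_comm (h.Z_sq ht) (h.Z_sq ht') (h.Z_sq u3)
  have ct : ∀ q ∈ vertexZ 2 u, t * q = q * t := fun q hq => h.Z_commute_Q hq htQu
  have ct' : ∀ q ∈ vertexZ 2 u, t' * q = q * t' := fun q hq => h.Z_commute_Q hq htQu'
  have hrt : r * t * r * t = c1 := by rw [hc1, commutatorElement_def, h.Z_inv hr, h.Z_inv ht]
  have hx2 : x * x = 1 := by
    calc x * x = r * t * (t' * r) * t * t' := by rw [hxdef]; group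
      _ = r * t * r * t' * (c2 * t) * t' := by rw [f2]; group
      _ = r * t * r * t' * (t * c2) * t' := by rw [ct c2 u2]
      _ = r * t * r * (t' * t) * (c2 * t') := by group
      _ = r * t * r * (t * t' * c3) * (t' * c2) := by rw [f3, ct' c2 u2]
      _ = (r * t * r * t) * t' * (c3 * t') * c2 := by group
      _ = c1 * t' * (t' * c3) * c2 := by rw [hrt, ct' c3 u3]
      _ = c1 * (t' * t') * c3 * c2 := by group
      _ = c1 * (c1 * c2) * c2 := by rw [h.Z_sq ht', mul_one, ← e3, h.Z_comm u2 u1]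
      _ = (c1 * c1) * (c2 * c2) := by group
      _ = 1 := by rw [h.Z_sq u1, h.Z_sq u2, one_mul]
  have hxQ : x ∉ vertexQ 2 a := by
    intro hh
    have hxr : r * (t * t') * r = r * (r * (t * t')) := h.Z_commute_Q hr hh
    have e' : r * (t * t') * r = r * (r * (t * t')) * (c1 * c2) := by
      calc r * (t * t') * r = r * t * (t' * r) := by group
        _ = r * (t * r) * t' * c2 := by rw [f2]; group
        _ = r * (r * t) * (c1 * t') * c2 := by rw [f1]; group
        _ = r * (r * t) * (t' * c1) * c2 := by rw [ct' c1 u1]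
        _ = _ := by group
    rw [hxr] at e'
    have h12 : c1 * c2 = 1 := mul_eq_left.1 e'.symm
    exact n3 (by rw [← e3, h.Z_comm u2 u1, h12])
  -- an element of order eight
  obtain ⟨e, he, hea⟩ := h.toSThreePair.exists_other hv₂.symm
  obtain ⟨s, hs, hsn⟩ := h.exists_mem_notMem he.symm (isA_of_adj he hB₂)
  have hswap : x • v₂ = v₃ := h.toSThreePair.swap_any hv₁ hv₂ hv₃ h21 h31 h32.symm hxE hxQ
  have he' : (cosetGraph M₁ M₂).Adj v₃ (x • e) := by
    rw [← hswap]; exact adj_smul x he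
  have hea' : x • e ≠ a := fun e' => hea (MulAction.injective x
    (e'.trans (MulAction.mem_stabilizer_iff.1 hxE.1).symm))
  have hs' : x * s * x⁻¹ ∈ vertexZ 2 (x • e) := h.Z_conj hs
  have hsn' : x * s * x⁻¹ ∉ vertexZ 2 v₃ := by
    intro hh
    have := h.Z_conj (g := x⁻¹) hh
    rw [← hswap, inv_smul_smul] at this
    exact hsn (by simpa [mul_assoc] using this)
  obtain ⟨m, n⟩ := h.comm_reps hk hS c hA hv₃ hv₂ h32 he' hea' he hea hs' hsn' hs hsn hv₁
    h31.symm h21.symm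
  have hm1 := h.Z_sq (h.ZB_le hv₁.symm hB₁ m)
  have hxi : x⁻¹ = x := inv_eq_of_mul_eq_one_right hx2
  set s3 := x * s * x⁻¹ with hs3
  have g2 : (x * s) ^ 2 = s3 * s := by rw [hs3, hxi, pow_two]; group
  have g4 : (x * s) ^ 4 = ⁅s3, s⁆ := by
    rw [show (4 : ℕ) = 2 * 2 from rfl, pow_mul, g2, pow_two, commutatorElement_def, h.Z_inv hs',
      h.Z_inv hs]
    group
  have g8 : (x * s) ^ 8 = 1 := by
    rw [show (8 : ℕ) = 4 * 2 from rfl, pow_mul, g4, pow_two, hm1]
  rcases hord (x * s) with e | e | e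
  · exact n (g4 ▸ e)
  · refine n (g4 ▸ ?_)
    rw [SpecFive.eq_one_of_pow_coprime (show Nat.Coprime 8 5 by norm_num) g8 e, one_pow]
  · refine n (g4 ▸ ?_)
    calc (x * s) ^ 4 = (x * s) ^ 4 * (x * s) ^ 8 := by rw [g8, mul_one]
      _ = ((x * s) ^ 6) ^ 2 := by rw [← pow_add, ← pow_mul]
      _ = 1 := by rw [e, one_pow]

theorem central_false (hord : Ord6 X) : False := by
  obtain ⟨b, p, c⟩ := h.exists_aCrit
  rcases em (Even b) with hb | hb
  · obtain rfl := h.even_eq_two c hb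
    exact two_false h hord c (h.even_kone c hb)
  · obtain ⟨q, P, -⟩ := h.exists_oPath c hb
    have hk := h.odd_kone P
    have hS := h.sumRel hk P
    obtain rfl := h.odd_eq_three hk hS P
    exact three_false h hord c hk hS

end Central

section Pair

variable {G : Type u} [Group G]

/-- `O₂(A)` computed inside an overgroup. -/
theorem map_pCoreOf_subgroupOf {A B : Subgroup G} (hAB : A ≤ B) :
    (pCoreOf 2 (A.subgroupOf B)).map B.subtype = pCoreOf 2 A := by
  rw [pCoreOf, pCoreOf, Subgroup.map_map,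
    ← map_pCore_equiv (p := 2) (Subgroup.subgroupOfEquivOfLe hAB), Subgroup.map_map]
  rfl

/-- Subgroups of odd index `3` in isomorphic groups. -/
theorem nonempty_mulEquiv_of_embedding [Finite G] {T P : Subgroup G} (hle : T ≤ P)
    (hT : IsPGroup 2 T) (hP : Nat.card P = 3 * Nat.card T) {M D : Type*} [Group M] [Group D]
    (e : P ≃* M) (f : D →* M) (hf : Function.Injective f) (hD : Nat.card D = Nat.card T) :
    Nonempty (T ≃* D) := by
  have : Fact (Nat.Prime 2) := ⟨Nat.prime_two⟩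
  have hpos : 0 < Nat.card T := Nat.card_pos
  have hidx : ∀ H : Subgroup ↥P, Nat.card H = Nat.card T → ¬ 2 ∣ H.index := by
    intro H hH
    have h1 := H.card_mul_index
    rw [hH, hP, mul_comm 3] at h1
    rw [Nat.eq_of_mul_eq_mul_left hpos h1]
    norm_num
  have hTc : Nat.card (T.subgroupOf P) = Nat.card T :=
    Nat.card_congr (Subgroup.subgroupOfEquivOfLe hle).toEquiv
  obtain ⟨k, hk⟩ := IsPGroup.iff_card.1 hT
  have hi : Function.Injective (e.symm.toMonoidHom.comp f) := e.symm.injective.comp hf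
  have hRc : Nat.card (e.symm.toMonoidHom.comp f).range = Nat.card T :=
    (Nat.card_congr (MonoidHom.ofInjective hi).toEquiv).symm.trans hD
  let S₁ : Sylow 2 ↥P := (IsPGroup.of_card (hTc.trans hk)).toSylow (hidx _ hTc)
  let S₂ : Sylow 2 ↥P := (IsPGroup.of_card (hRc.trans hk)).toSylow (hidx _ hRc)
  exact ⟨(Subgroup.subgroupOfEquivOfLe hle).symm.trans
    ((Sylow.equiv S₁ S₂).trans (MonoidHom.ofInjective hi).symm)⟩

theorem exists_dihedral_four_hom :
    ∃ f : DihedralGroup 4 →* Equiv.Perm (Fin 4), Function.Injective f := by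
  let f : DihedralGroup 4 → Equiv.Perm (Fin 4) := fun
    | DihedralGroup.r i => finRotate 4 ^ i.val
    | DihedralGroup.sr i => Equiv.swap (0 : Fin 4) 2 * finRotate 4 ^ i.val
  have h1 : ∀ a b, f (a * b) = f a * f b := by decide +kernel
  have h2 : Function.Injective f := by decide +kernel
  exact ⟨MonoidHom.mk' f h1, h2⟩

theorem Par3.core_le [Finite G] {T P : Subgroup G} (hP : Par3 T P) : pCoreOf 2 P ≤ T := by
  have : Fact (Nat.Prime 2) := ⟨Nat.prime_two⟩
  have hTc : Nat.card (T.subgroupOf P) = Nat.card T :=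
    Nat.card_congr (Subgroup.subgroupOfEquivOfLe hP.le).toEquiv
  obtain ⟨k, hk⟩ := IsPGroup.iff_card.1 hP.two
  have h1 := (T.subgroupOf P).card_mul_index
  rw [hTc, hP.card_eq, mul_comm 3] at h1
  have hidx : ¬ 2 ∣ (T.subgroupOf P).index := by
    rw [Nat.eq_of_mul_eq_mul_left Nat.card_pos h1]; norm_num
  let S : Sylow 2 ↥P := (IsPGroup.of_card (hTc.trans hk)).toSylow hidx
  rintro _ ⟨x, hx, rfl⟩
  exact pCore_mem_sylow S hx

theorem le_normalizer_pCoreOf (P : Subgroup G) :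
    P ≤ Subgroup.normalizer (pCoreOf 2 P : Set G) :=
  le_normalizer_of_conj fun _ hg _ hx => conj_mem_pCoreOf hg hx

theorem Par3.core_ne_bot [Finite G] {T P : Subgroup G} (hP : Par3 T P) : pCoreOf 2 P ≠ ⊥ := by
  intro e
  have hbot : P = ⊥ := by
    refine le_bot_iff.1 fun x hx => ?_
    rw [← e]
    refine hP.cent ⟨Subgroup.mem_centralizer_iff.2 fun y hy => ?_, hx⟩
    rw [e, SetLike.mem_coe, Subgroup.mem_bot] at hy
    rw [hy, one_mul, mul_one]
  have h1 := hP.card_eq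
  rw [hbot, Subgroup.card_bot] at h1
  have : 0 < Nat.card T := Nat.card_pos
  omega

theorem Par3.cent_pCore [Finite G] {T P : Subgroup G} (hP : Par3 T P) :
    Subgroup.centralizer (pCore 2 ↥P : Set ↥P) ≤ pCore 2 ↥P := by
  intro x hx
  obtain ⟨y, hy, e⟩ := hP.cent ⟨Subgroup.mem_centralizer_iff.2 (by
    rintro _ ⟨y, hy, rfl⟩
    exact congrArg Subtype.val (Subgroup.mem_centralizer_iff.1 hx y hy)), x.2⟩
  exact Subtype.ext e ▸ hy

/-- A central element of `T` outside a self-centralising index two subgroup. -/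
theorem frame_cent [Finite G] {T P : Subgroup G} (hP : Par3 T P) {A₁ : Subgroup G}
    (hA₁T : A₁ ≤ T) (hA₁ : Elem A₁) (hc : Nat.card T = 2 * Nat.card A₁)
    {a b : G} (ha : a ∈ A₁) (ha' : a ∉ pCoreOf 2 P) (hb : b ∈ pCoreOf 2 P) (hab : Commute a b) :
    b ∈ A₁ := by
  by_contra hb'
  refine ha' (hP.cent ⟨Subgroup.mem_centralizer_iff.2 fun y hy => ?_, hP.le (hA₁T ha)⟩)
  have hcard : Nat.card (A₁.subgroupOf T) = Nat.card A₁ :=
    Nat.card_congr (Subgroup.subgroupOfEquivOfLe hA₁T).toEquiv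
  have hi : (A₁.subgroupOf T).index = 2 := by
    have h1 := (A₁.subgroupOf T).card_mul_index
    rw [hcard, hc, mul_comm 2] at h1
    exact Nat.eq_of_mul_eq_mul_left Nat.card_pos h1
  have h2 := Subgroup.mul_mem_iff_of_index_two hi (a := ⟨y, hP.core_le hy⟩) (b := ⟨b, hP.core_le hb⟩)
  simp only [Subgroup.mem_subgroupOf, Subgroup.coe_mul] at h2
  by_cases hyA : y ∈ A₁
  · exact (hA₁.1 a ha y hyA).symm
  · have hyb : y * b ∈ A₁ := h2.2 ⟨fun h => absurd h hyA, fun h => absurd h hb'⟩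
    have hc2 : Commute a (y * b * b⁻¹) := (hA₁.1 a ha _ hyb).mul_right hab.inv_right
    rw [mul_inv_cancel_right] at hc2
    exact hc2.symm

/-- Two parabolic subgroups with top `S₃` over `T` and no common normal subgroup in `T`. -/
theorem bad_pair [Finite G] (h : Ord6 G) {T P P' : Subgroup G} (hP : Par3 T P) (hP' : Par3 T P')
    (hbad : ∀ N : Subgroup G, N ≤ T → P ≤ Subgroup.normalizer (N : Set G) →
      P' ≤ Subgroup.normalizer (N : Set G) → N = ⊥) :
    TwoFrame T (pCoreOf 2 P) (pCoreOf 2 P') ∧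
      (Nonempty (T ≃* DihedralGroup 4) ∨
        Nonempty (T ≃* Multiplicative (ZMod 2) × DihedralGroup 4)) := by
  have : Fact (Nat.Prime 2) := ⟨Nat.prime_two⟩
  have hTne : 0 < Nat.card T := Nat.card_pos
  have hA : pCoreOf 2 P ≠ pCoreOf 2 P' := fun e =>
    hP.core_ne_bot (hbad _ hP.core_le (le_normalizer_pCoreOf P) (e ▸ le_normalizer_pCoreOf P'))
  have hPne : ¬ P ≤ P' := fun hle => hA (by
    rw [Subgroup.eq_of_le_of_card_ge hle (by rw [hP.card_eq, hP'.card_eq])])
  have hPne' : ¬ P' ≤ P := fun hle => hA (by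
    rw [Subgroup.eq_of_le_of_card_ge hle (by rw [hP.card_eq, hP'.card_eq])])
  have hinf : P ⊓ P' = T := by
    refine (Subgroup.eq_of_le_of_card_ge (le_inf hP.le hP'.le) ?_).symm
    obtain ⟨m, hm⟩ := Subgroup.card_dvd_of_le (inf_le_left : P ⊓ P' ≤ P)
    obtain ⟨l, hl⟩ := Subgroup.card_dvd_of_le (le_inf hP.le hP'.le : T ≤ P ⊓ P')
    rw [hP.card_eq, hl] at hm
    have hlm : 3 = l * m := Nat.eq_of_mul_eq_mul_left hTne (by rw [← mul_assoc, ← hm, mul_comm])
    rcases (Nat.dvd_prime Nat.prime_three).1 ⟨m, hlm⟩ with rfl | rfl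
    · rw [hl, mul_one]
    · exact absurd ((Subgroup.eq_of_le_of_card_ge inf_le_left
        (by rw [hP.card_eq, hl, mul_comm])).symm.trans_le inf_le_right) hPne
  let X : Subgroup G := P ⊔ P'
  let M₁ : Subgroup ↥X := P.subgroupOf X
  let M₂ : Subgroup ↥X := P'.subgroupOf X
  let e₁ : ↥M₁ ≃* ↥P := Subgroup.subgroupOfEquivOfLe le_sup_left
  let e₂ : ↥M₂ ≃* ↥P' := Subgroup.subgroupOfEquivOfLe le_sup_right
  have hM : M₁ ⊓ M₂ = T.subgroupOf X := by
    ext x
    simp only [M₁, M₂, Subgroup.mem_inf, Subgroup.mem_subgroupOf]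
    rw [← Subgroup.mem_inf, hinf]
  have hMc : Nat.card ↥(M₁ ⊓ M₂) = Nat.card T := by
    rw [hM]
    exact Nat.card_congr (Subgroup.subgroupOfEquivOfLe (hP.le.trans le_sup_left)).toEquiv
  have hcore : ∀ {Q : Subgroup G} (hQ : Q ≤ X), Par3 T Q →
      Nat.card ↥(Q.subgroupOf X) = 6 * Nat.card (pCore 2 ↥(Q.subgroupOf X)) := by
    intro Q hQ hp
    have e1 : Nat.card ↥(Q.subgroupOf X) = Nat.card Q :=
      Nat.card_congr (Subgroup.subgroupOfEquivOfLe hQ).toEquiv
    have e2 : Nat.card (pCore 2 ↥(Q.subgroupOf X)) = Nat.card (pCoreOf 2 Q) := by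
      rw [← map_pCoreOf_subgroupOf hQ, pCoreOf,
        Subgroup.card_map_of_injective X.subtype_injective,
        Subgroup.card_map_of_injective (Subgroup.subtype_injective _)]
    rw [e1, e2, hp.card_eq, hp.core_eq]
    ring
  have hne₁ : M₁ ≠ ⊤ := fun e => hPne' fun x hx => by
    have : (⟨x, Subgroup.mem_sup_right hx⟩ : ↥X) ∈ M₁ := e ▸ Subgroup.mem_top _
    exact this
  have hne₂ : M₂ ≠ ⊤ := fun e => hPne fun x hx => by
    have : (⟨x, Subgroup.mem_sup_left hx⟩ : ↥X) ∈ M₂ := e ▸ Subgroup.mem_top _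
    exact this
  have hgen : M₁ ⊔ M₂ = ⊤ := by
    rw [← Subgroup.subgroupOf_sup le_sup_left le_sup_right, Subgroup.subgroupOf_self]
  have hN : ∀ N : Subgroup ↥X, N ≤ M₁ ⊓ M₂ → N.Normal → N = ⊥ := by
    intro N hNle hn
    rw [hM] at hNle
    have h1 : N.map X.subtype ≤ T := by
      rintro _ ⟨x, hx, rfl⟩
      exact hNle hx
    have h2 : ∀ Q : Subgroup G, Q ≤ X → Q ≤ Subgroup.normalizer (N.map X.subtype : Set G) := by
      refine fun Q hQ => le_normalizer_of_conj ?_
      rintro g hg _ ⟨x, hx, rfl⟩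
      exact ⟨⟨g, hQ hg⟩ * x * ⟨g, hQ hg⟩⁻¹, hn.conj_mem x hx _, rfl⟩
    exact (N.map_eq_bot_iff_of_injective X.subtype_injective).1
      (hbad _ h1 (h2 _ le_sup_left) (h2 _ le_sup_right))
  have hord : Ord6 ↥X := h.subgroup X
  have hp : SThreePair M₁ M₂ := by
    refine ⟨⟨hgen, hne₁, hne₂, hN⟩, inferInstance, inferInstance, ?_, ?_, ?_,
      hcore le_sup_left hP, hcore le_sup_right hP'⟩
    · rw [hM]
      exact hP.two.of_equiv (Subgroup.subgroupOfEquivOfLe (hP.le.trans le_sup_left)).symm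
    · rw [Nat.card_congr e₁.toEquiv, hP.card_eq, hMc]
    · rw [Nat.card_congr e₂.toEquiv, hP'.card_eq, hMc]
  have p₁ := centralizer_pCore_equiv e₁.symm hP.cent_pCore
  have p₂ := centralizer_pCore_equiv e₂.symm hP'.cent_pCore
  by_cases a₁ : M₁ ≤ Subgroup.centralizer (omegaCentre 2 (M₁ ⊓ M₂) : Set ↥X)
  · by_cases a₂ : M₂ ≤ Subgroup.centralizer (omegaCentre 2 (M₁ ⊓ M₂) : Set ↥X)
    · exact (hp.not_both_central a₁ a₂).elim
    · exact (central_false (M₁ := M₂) (M₂ := M₁) { hp.swap with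
        charP₁ := p₂
        charP₂ := p₁
        active₁ := inf_comm M₁ M₂ ▸ a₂
        central₂ := inf_comm M₁ M₂ ▸ a₁ } hord).elim
  by_cases a₂ : M₂ ≤ Subgroup.centralizer (omegaCentre 2 (M₁ ⊓ M₂) : Set ↥X)
  · exact (central_false
      { hp with charP₁ := p₁, charP₂ := p₂, active₁ := a₁, central₂ := a₂ } hord).elim
  have hh : SThreeActive M₁ M₂ :=
    { hp with charP₁ := p₁, charP₂ := p₂, active₁ := a₁, active₂ := a₂ }
  -- the cores are elementary
  have hel : ∀ (δ : CosetVertex M₁ M₂) (Q : Subgroup G), Q ≤ X →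
      MulAction.stabilizer ↥X δ = Q.subgroupOf X → Elem (pCoreOf 2 Q) := by
    intro δ Q hQ hs
    have hd : pCoreOf 2 (Q.subgroupOf X) = vertexZ 2 δ := by
      rw [← hh.Q_eq_Z δ, vertexQ, hs]
    rw [← map_pCoreOf_subgroupOf hQ, hd]
    refine ⟨?_, ?_⟩
    · rintro _ ⟨a, ha, rfl⟩ _ ⟨b, hb, rfl⟩
      exact Commute.map (show Commute a b from hh.Z_comm ha hb) X.subtype
    · rintro _ ⟨a, ha, rfl⟩
      rw [← map_mul, hh.Z_sq ha, map_one]
  have hE₁ : Elem (pCoreOf 2 P) := hel (base₁ M₁ M₂) P le_sup_left stabilizer_base₁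
  have hE₂ : Elem (pCoreOf 2 P') := hel (base₂ M₁ M₂) P' le_sup_right stabilizer_base₂
  have hcA : Nat.card (pCoreOf 2 P) = Nat.card (pCoreOf 2 P') := by
    have := hP.core_eq
    have := hP'.core_eq
    omega
  have hn₁ : ¬ pCoreOf 2 P' ≤ pCoreOf 2 P := fun hle =>
    hA (Subgroup.eq_of_le_of_card_ge hle hcA.le).symm
  refine ⟨⟨hP.core_le, hP'.core_le, hE₁, hE₂, hA, hcA, ?_, ?_, ?_, ?_⟩, ?_⟩
  · intro t ht
    by_cases htA : t ∈ pCoreOf 2 P
    · exact ⟨t, htA, 1, one_mem _, (mul_one t).symm⟩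
    obtain ⟨b, hb, hb'⟩ := Set.not_subset.1 hn₁
    have hi : ((pCoreOf 2 P).subgroupOf T).index = 2 := by
      have h1 := ((pCoreOf 2 P).subgroupOf T).card_mul_index
      rw [Nat.card_congr (Subgroup.subgroupOfEquivOfLe hP.core_le).toEquiv, hP.core_eq, mul_comm 2] at h1
      exact Nat.eq_of_mul_eq_mul_left Nat.card_pos h1
    have h2 := Subgroup.mul_mem_iff_of_index_two hi (a := ⟨t, ht⟩)
      (b := (⟨b, hP'.core_le hb⟩ : T)⁻¹)
    simp only [Subgroup.mem_subgroupOf, Subgroup.coe_mul, Subgroup.coe_inv, inv_mem_iff] at h2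
    exact ⟨t * b⁻¹, h2.2 ⟨fun h => absurd h htA, fun h => absurd h hb'⟩, b, hb,
      (inv_mul_cancel_right t b).symm⟩
  · intro B hBT hB
    by_contra hcon
    push Not at hcon
    obtain ⟨b, hb, hb₁⟩ := Set.not_subset.1 hcon.1
    obtain ⟨b', hb', hb₂⟩ := Set.not_subset.1 hcon.2
    have hi : ((pCoreOf 2 P).subgroupOf T).index = 2 := by
      have h1 := ((pCoreOf 2 P).subgroupOf T).card_mul_index
      rw [Nat.card_congr (Subgroup.subgroupOfEquivOfLe hP.core_le).toEquiv, hP.core_eq, mul_comm 2] at h1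
      exact Nat.eq_of_mul_eq_mul_left Nat.card_pos h1
    have key : ∀ y ∈ B, y ∈ pCoreOf 2 P ∨ y ∈ pCoreOf 2 P' := by
      intro y hy
      by_contra hno
      push Not at hno
      obtain ⟨d, hd, hd'⟩ := Set.not_subset.1 hn₁
      have h2 := Subgroup.mul_mem_iff_of_index_two hi (a := ⟨y, hBT hy⟩)
        (b := (⟨d, hP'.core_le hd⟩ : T)⁻¹)
      simp only [Subgroup.mem_subgroupOf, Subgroup.coe_mul, Subgroup.coe_inv, inv_mem_iff] at h2
      have hz : y * d⁻¹ ∈ pCoreOf 2 P := h2.2 ⟨fun h => absurd h hno.1, fun h => absurd h hd'⟩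
      have hz' : y * d⁻¹ ∉ pCoreOf 2 P' := fun hh => hno.2 (by simpa using mul_mem hh hd)
      have hc : Commute (y * d⁻¹) d := by
        have hy2 := hB.2 y hy
        have hd2 := hE₂.2 d hd
        have hz2 := hE₁.2 _ hz
        rw [inv_eq_of_mul_eq_one_right hd2] at hz2 ⊢
        show y * d * d = d * (y * d)
        rw [mul_assoc, hd2, mul_one]
        calc y = y * (y * d * (y * d)) := by rw [hz2, mul_one]
          _ = (y * y) * d * (y * d) := by group
          _ = d * (y * d) := by rw [hy2, one_mul]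
      exact hd' (frame_cent hP' hP.core_le hE₁ hP.core_eq hz hz' hd hc)
    exact hb₁ (frame_cent hP' hP.core_le hE₁ hP.core_eq ((key b' hb').resolve_right hb₂) hb₂
      ((key b hb).resolve_left hb₁) (hB.1 b' hb' b hb))
  · exact fun a ha ha' b hb hab => frame_cent hP' hP.core_le hE₁ hP.core_eq ha ha' hb hab
  · exact fun b hb hb' a ha hab => frame_cent hP hP'.core_le hE₂ hP'.core_eq hb hb' ha hab.symm
  obtain ⟨f, hf⟩ := exists_dihedral_four_hom
  rcases hh.groups with ⟨⟨e⟩, -⟩ | ⟨⟨e⟩, -⟩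
  · refine Or.inl (nonempty_mulEquiv_of_embedding hP.le hP.two hP.card_eq (e₁.symm.trans e) f hf ?_)
    have h1 := hP.card_eq
    rw [Nat.card_congr (e₁.symm.trans e).toEquiv, Nat.card_perm, Nat.card_fin] at h1
    rw [DihedralGroup.nat_card]
    rw [show Nat.factorial 4 = 24 from rfl] at h1
    omega
  · refine Or.inr (nonempty_mulEquiv_of_embedding hP.le hP.two hP.card_eq (e₁.symm.trans e)
      ((MonoidHom.id _).prodMap f) (Function.injective_id.prodMap hf) ?_)
    have h1 := hP.card_eq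
    rw [Nat.card_congr (e₁.symm.trans e).toEquiv, Nat.card_prod, Nat.card_perm, Nat.card_fin,
      Nat.card_congr (Multiplicative.toAdd (α := ZMod 2)), Nat.card_zmod] at h1
    rw [Nat.card_prod, DihedralGroup.nat_card, Nat.card_congr (Multiplicative.toAdd (α := ZMod 2)),
      Nat.card_zmod]
    rw [show Nat.factorial 4 = 24 from rfl] at h1
    omega

end Pair

end CfsgLib.SpecSix
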