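import Cfsg.Agent.SpecSix.Basic
import Cfsg.Agent.SpecFive.Alt
import Cfsg.Agent.S3222
import Cfsg.Agent.S2119
import Cfsg.Agent.AltAutSq.Basic
import Cfsg.Agent.AltAut.PreserveThree

/-!
# Groups of automorphisms of `A₆` with element orders at most six are induced by `S₆`
-/

set_option autoImplicit false
set_option linter.unusedSectionVars false
set_option linter.style.haveILetI false
set_option maxRecDepth 4000

namespace CfsgLib.SpecSix

open CfsgLib.SpecFive (A6 a6z a6d a6t a6x)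

theorem a6_three : a6x ^ 3 = 1 ∧ a6x ≠ 1 := by decide +kernel

theorem a6_img : ∀ g : A6, g * a6z = a6z * g → g * g = 1 → g ≠ 1 → g ≠ a6z →
    g = a6d ∨ g = a6d * a6z ∨ g = a6t ∨ g = a6t * a6z := by decide +kernel

theorem a6_d_conj : a6d * a6z * a6d⁻¹ = a6z ∧ a6d * a6d * a6d⁻¹ = a6d ∧
    a6d * a6t * a6d⁻¹ = a6t * a6z := by decide +kernel

theorem a6_noncomm : a6d * a6t ≠ a6t * a6d ∧ a6t * (a6t * a6z) = a6t * a6z * a6t ∧
    a6d ≠ 1 ∧ a6t ≠ 1 ∧ a6d ≠ a6z ∧ a6t ≠ a6z := by decide +kernel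

/-- The first four group. -/
def InV (g : A6) : Prop := g = 1 ∨ g = a6z ∨ g = a6d ∨ g = a6d * a6z

theorem inV_conj : ∀ g : A6, (g = 1 ∨ g = a6z ∨ g = a6d ∨ g = a6d * a6z) →
    (a6x * g * a6x⁻¹ = 1 ∨ a6x * g * a6x⁻¹ = a6z ∨ a6x * g * a6x⁻¹ = a6d ∨
      a6x * g * a6x⁻¹ = a6d * a6z) := by decide +kernel

set_option synthInstance.maxSize 4000 in
set_option synthInstance.maxHeartbeats 400000 in
theorem a6_norm_conj : ∀ g : A6, g * g * g = 1 → g ≠ 1 →
    (g * a6z * g⁻¹ = 1 ∨ g * a6z * g⁻¹ = a6z ∨ g * a6z * g⁻¹ = a6d ∨ g * a6z * g⁻¹ = a6d * a6z) →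
    (g * a6d * g⁻¹ = 1 ∨ g * a6d * g⁻¹ = a6z ∨ g * a6d * g⁻¹ = a6d ∨ g * a6d * g⁻¹ = a6d * a6z) →
    ∃ k : A6, k * g * k⁻¹ = a6x := by decide +kernel

set_option synthInstance.maxSize 4000 in
set_option synthInstance.maxHeartbeats 400000 in
theorem perm6_no_square : ∀ σ : Equiv.Perm (Fin 6),
    (σ * σ = 1 ∨ σ * σ * σ = 1 ∨ σ * σ * σ * σ * σ = 1) →
    ¬ (σ * a6d.1 * σ⁻¹ = (a6d * a6z).1 ∧ σ * a6t.1 * σ⁻¹ = (a6t * a6z).1) := by decide +kernel

/-- See the module docstring. -/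
theorem mem_range_of_ord6 (H : Subgroup (MulAut A6)) (hH : Ord6 H)
    (hinner : ∀ k : A6, MulAut.conj k ∈ H) {φ : MulAut A6} (hφ : φ ∈ H) :
    φ ∈ (MulAut.conjNormal : Equiv.Perm (Fin 6) →* MulAut A6).range := by
  set R := (MulAut.conjNormal : Equiv.Perm (Fin 6) →* MulAut A6).range with hR
  have inR : ∀ k : A6, MulAut.conj k ∈ R := fun k => ⟨k.1, MulEquiv.ext fun a => Subtype.ext (by
    rw [MulAut.conjNormal_apply, MulAut.conj_apply]; rfl)⟩
  obtain ⟨hz2, hd2, ht2, hz1, hzd, hzt, htd⟩ := SpecFive.a6_basic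
  obtain ⟨hdt, -, hd1, ht1, hdz, htz⟩ := a6_noncomm
  obtain ⟨hx3, hx1⟩ := a6_three
  suffices key : ∀ ψ : MulAut A6, ψ ∈ H → ψ a6z = a6z → ψ ∈ R by
    obtain ⟨k, hk⟩ := SpecFive.a6_classes (φ a6z) (by rw [← map_mul, hz2, map_one])
      (fun e => hz1 (φ.map_eq_one_iff.1 e))
    have h1 := key (MulAut.conj k⁻¹ * φ) (H.mul_mem (hinner _) hφ) (by
      rw [MulAut.mul_apply, MulAut.conj_apply, ← hk]; group)
    exact (R.mul_mem_cancel_left (inR k⁻¹)).1 h1
  intro ψ hψ hz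
  have img : ∀ b : A6, a6z * b = b * a6z → b * b = 1 → b ≠ 1 → b ≠ a6z →
      ψ b = a6d ∨ ψ b = a6d * a6z ∨ ψ b = a6t ∨ ψ b = a6t * a6z := fun b hb hb2 hb1 hbz =>
    a6_img _ (by rw [← hz, ← map_mul, ← map_mul, hb]) (by rw [← map_mul, hb2, map_one])
      (fun e => hb1 (ψ.map_eq_one_iff.1 e)) (fun e => hbz (ψ.injective (e.trans hz.symm)))
  -- automorphisms fixing the first four group
  have fixV : (ψ a6d = a6d ∨ ψ a6d = a6d * a6z) → ψ ∈ R := by
    intro hd
    have hdzz : a6d * a6z * a6z = a6d := by rw [mul_assoc, hz2, mul_one]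
    have pres : ∀ g, InV g → InV (ψ g) := by
      intro g hg
      rcases hg with e | e | e | e <;> subst e
      · exact Or.inl (map_one ψ)
      · exact Or.inr (Or.inl hz)
      · rcases hd with s | s
        exacts [Or.inr (Or.inr (Or.inl s)), Or.inr (Or.inr (Or.inr s))]
      · rw [map_mul, hz]
        rcases hd with s | s <;> rw [s]
        exacts [Or.inr (Or.inr (Or.inr rfl)), Or.inr (Or.inr (Or.inl hdzz))]
    obtain ⟨e, heV, he⟩ : ∃ e, InV e ∧ ψ e = a6d := by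
      rcases hd with s | s
      · exact ⟨_, Or.inr (Or.inr (Or.inl rfl)), s⟩
      · exact ⟨a6d * a6z, Or.inr (Or.inr (Or.inr rfl)), by rw [map_mul, s, hz, hdzz]⟩
    have step : ∀ g, InV g → InV (ψ a6x * ψ g * (ψ a6x)⁻¹) := fun g hg => by
      rw [← map_inv, ← map_mul, ← map_mul]
      exact pres _ (inV_conj g hg)
    obtain ⟨k, hk⟩ := a6_norm_conj (ψ a6x)
      (by rw [← map_mul, ← map_mul, show a6x * a6x * a6x = 1 by rw [← hx3]; simp [pow_succ], map_one])
      (fun e => hx1 (ψ.map_eq_one_iff.1 e))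
      (by have := step a6z (Or.inr (Or.inl rfl)); rw [hz] at this; exact this)
      (by have := step e heV; rw [he] at this; exact this)
    refine (R.mul_mem_cancel_left (inR k)).1 ?_
    obtain ⟨σ, hσ⟩ := CfsgLib.AltAut.exists_conjNormal_of_preserve (by simp) (MulAut.conj k * ψ)
      (Cfsg.Agent.S3222.alt_six_preserve _ a6x (by
        haveI := Fact.mk Nat.prime_three
        exact orderOf_eq_prime hx3 hx1) (by rw [MulAut.mul_apply, MulAut.conj_apply, hk]))
    exact ⟨σ, hσ⟩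
  -- automorphisms exchanging the four groups: there is an element of order eight
  have swap : ∀ u : MulAut A6, u ∈ H → u a6z = a6z →
      (u (u a6d) = a6d * a6z ∧ u (u a6t) = a6t * a6z) → u * u ∈ R → False := by
    rintro u hu huz ⟨hud, hut⟩ ⟨σ, hσ⟩
    have inj := Cfsg.Agent.S2119.injective_conjNormal (α := Fin 6) (by simp)
    have back : ∀ m : ℕ, u ^ m = 1 → (σ ^ m) = 1 := fun m hm => inj (by
      rw [map_pow, hσ, map_one, ← pow_two, ← pow_mul, mul_comm, pow_mul, hm, one_pow])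
    refine perm6_no_square σ ?_ ⟨?_, ?_⟩
    · rcases hH ⟨u, hu⟩ with e | e | e
      · left
        have e' : u ^ 4 = 1 := congrArg Subtype.val e
        refine inj ?_
        rw [map_mul, hσ, map_one, ← e']; simp [pow_succ, mul_assoc]
      · right; right
        have e' := back 5 (congrArg Subtype.val e)
        rw [← e']; simp [pow_succ]
      · right; left
        have e' : u ^ 6 = 1 := congrArg Subtype.val e
        refine inj ?_
        rw [map_mul, map_mul, hσ, map_one, ← e']; simp [pow_succ, mul_assoc]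
    · have e := congrArg Subtype.val ((DFunLike.congr_fun hσ a6d).trans hud)
      rwa [MulAut.conjNormal_apply] at e
    · have e := congrArg Subtype.val ((DFunLike.congr_fun hσ a6t).trans hut)
      rwa [MulAut.conjNormal_apply] at e
  have sqR : ∀ u : MulAut A6, u * u ∈ R := fun u => CfsgLib.AltAutSq.sq_mem_range (by norm_num) u
  have swapB : ∀ u : MulAut A6, u ∈ H → u a6z = a6z →
      ((u a6d = a6t ∧ u a6t = a6d) ∨ (u a6d = a6t * a6z ∧ u a6t = a6d * a6z)) → False := by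
    intro u hu huz h
    obtain ⟨c1, c2, c3⟩ := a6_d_conj
    have hv : ∀ a, (u * MulAut.conj a6d) a = u (a6d * a * a6d⁻¹) := fun a => rfl
    have hzz : ∀ a : A6, a * a6z * a6z = a := fun a => by rw [mul_assoc, hz2, mul_one]
    refine swap (u * MulAut.conj a6d) (H.mul_mem hu (hinner _)) ?_ ?_ (sqR _)
    · rw [hv, c1, huz]
    · have vd : (u * MulAut.conj a6d) a6d = u a6d := by rw [hv, c2]
      have vt : (u * MulAut.conj a6d) a6t = u a6t * a6z := by rw [hv, c3, map_mul, huz]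
      have vz : (u * MulAut.conj a6d) a6z = a6z := by rw [hv, c1, huz]
      rcases h with ⟨h1, h2⟩ | ⟨h1, h2⟩
      · refine ⟨?_, ?_⟩
        · rw [vd, h1, vt, h2]
        · rw [vt, h2, map_mul, vd, h1, vz]
      · rw [h2, hzz] at vt
        refine ⟨?_, ?_⟩
        · rw [vd, h1, map_mul, vt, vz]
        · rw [vt, vd, h1]
  rcases img a6d hzd hd2 hd1 hdz with hd | hd | hd | hd
  · exact fixV (Or.inl hd)
  · exact fixV (Or.inr hd)
  all_goals
    exfalso
    have hnc : ψ a6d * ψ a6t ≠ ψ a6t * ψ a6d := fun e => hdt (ψ.injective (by rwa [map_mul, map_mul]))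
  · rcases img a6t hzt ht2 ht1 htz with ht | ht | ht | ht
    · exact swapB ψ hψ hz (Or.inl ⟨hd, ht⟩)
    · exact swap ψ hψ hz ⟨by rw [hd, ht], by rw [ht, map_mul, hd, hz]⟩ (sqR ψ)
    · exact hnc (by rw [hd, ht])
    · exact hnc (by rw [hd, ht]; exact a6_noncomm.2.1)
  · rcases img a6t hzt ht2 ht1 htz with ht | ht | ht | ht
    · exact swap ψ hψ hz ⟨by rw [hd, map_mul, ht, hz], by rw [ht, hd]⟩ (sqR ψ)
    · exact swapB ψ hψ hz (Or.inr ⟨hd, ht⟩)
    · exact hnc (by rw [hd, ht]; exact a6_noncomm.2.1.symm)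
    · exact hnc (by rw [hd, ht])

end CfsgLib.SpecSix
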