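import Cfsg.Agent.SpecSix.Defs
import Cfsg.Agent.SpecSix.Norm
import Cfsg.Agent.SpecSix.SolvableCase
import Cfsg.Agent.SpecSix.Almost
import Cfsg.Agent.MinNormal.Structure

/-!
# The structure of groups with element orders one to six
-/

set_option autoImplicit false
set_option linter.unusedSectionVars false
set_option linter.style.haveILetI false

namespace CfsgLib.SpecSix

open Cfsg
open CfsgLib.SpecFive (eq_one_of_pow_coprime A5 A6)

universe u

/-- The subgroup `{1, a, b, a b}`. -/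
def fourSub {H : Type*} [Group H] (a b : H) (ha : a * a = 1) (hb : b * b = 1) (hab : Commute a b) :
    Subgroup H where
  carrier := {g | g = 1 ∨ g = a ∨ g = b ∨ g = a * b}
  one_mem' := Or.inl rfl
  mul_mem' := by
    have e1 : b * a = a * b := hab.eq.symm
    have e2 : a * (a * b) = b := by rw [← mul_assoc, ha, one_mul]
    have e3 : a * b * a = b := by rw [mul_assoc, e1, e2]
    have e4 : b * (a * b) = a := by rw [← mul_assoc, e1, mul_assoc, hb, mul_one]
    have e5 : a * b * b = a := by rw [mul_assoc, hb, mul_one]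
    have e6 : a * b * (a * b) = 1 := by rw [← mul_assoc, e3, hb]
    rintro u v (rfl | rfl | rfl | rfl) (rfl | rfl | rfl | rfl) <;>
      simp only [Set.mem_ofPred_eq, one_mul, mul_one, ha, hb, e1, e2, e3, e4, e5, e6, true_or, or_true]
  inv_mem' := by
    rintro u (rfl | rfl | rfl | rfl)
    · exact Or.inl inv_one
    · exact Or.inr (Or.inl (inv_eq_of_mul_eq_one_right ha))
    · exact Or.inr (Or.inr (Or.inl (inv_eq_of_mul_eq_one_right hb)))
    · refine Or.inr (Or.inr (Or.inr ?_))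
      rw [mul_inv_rev, inv_eq_of_mul_eq_one_right ha, inv_eq_of_mul_eq_one_right hb, hab.eq]

theorem mem_fourSub {H : Type*} [Group H] {a b : H} {ha : a * a = 1} {hb : b * b = 1}
    {hab : Commute a b} {g : H} :
    g ∈ fourSub a b ha hb hab ↔ g = 1 ∨ g = a ∨ g = b ∨ g = a * b := Iff.rfl

theorem a5_tetra : ∃ v : A5, v * v * v = 1 ∧ v ≠ 1 ∧ v * SpecFive.a5a * v⁻¹ = SpecFive.a5b ∧
    v * SpecFive.a5b * v⁻¹ = SpecFive.a5a * SpecFive.a5b := by decide +kernel

theorem a6_tetra : ∃ v : A6, v * v * v = 1 ∧ v ≠ 1 ∧ v * SpecFive.a6z * v⁻¹ = SpecFive.a6d ∧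
    v * SpecFive.a6d * v⁻¹ = SpecFive.a6z * SpecFive.a6d := by decide +kernel

/-- A subgroup isomorphic to `A₄` inside `A₅` or `A₆`, by generators. -/
theorem exists_tetra {M : Type*} [Group M] (hM : Nonempty (M ≃* A5) ∨ Nonempty (M ≃* A6)) :
    ∃ a b v : M, a * a = 1 ∧ b * b = 1 ∧ a ≠ 1 ∧ b ≠ 1 ∧ a ≠ b ∧ Commute a b ∧ v * v * v = 1 ∧ v ≠ 1 ∧
      v * a * v⁻¹ = b ∧ v * b * v⁻¹ = a * b := by
  have push : ∀ {K : Type} [Group K], (M ≃* K) → ∀ a b v : K, a * a = 1 → b * b = 1 → a ≠ 1 → b ≠ 1 →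
      a ≠ b → Commute a b → v * v * v = 1 → v ≠ 1 → v * a * v⁻¹ = b → v * b * v⁻¹ = a * b →
      ∃ a b v : M, a * a = 1 ∧ b * b = 1 ∧ a ≠ 1 ∧ b ≠ 1 ∧ a ≠ b ∧ Commute a b ∧ v * v * v = 1 ∧ v ≠ 1 ∧
        v * a * v⁻¹ = b ∧ v * b * v⁻¹ = a * b := by
    intro K _ e a b v ha hb ha1 hb1 hne hab hv hv1 h1 h2
    refine ⟨e.symm a, e.symm b, e.symm v, ?_, ?_, ?_, ?_, ?_, hab.map e.symm, ?_, ?_, ?_, ?_⟩
    · rw [← map_mul, ha, map_one]
    · rw [← map_mul, hb, map_one]
    · simpa using ha1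
    · simpa using hb1
    · simpa using hne
    · rw [← map_mul, ← map_mul, hv, map_one]
    · simpa using hv1
    · rw [← map_inv, ← map_mul, ← map_mul, h1]
    · rw [← map_inv, ← map_mul, ← map_mul, h2, map_mul]
  rcases hM with ⟨⟨e⟩⟩ | ⟨⟨e⟩⟩
  · obtain ⟨ha, hb, ha1, hb1, hne, hab⟩ := SpecFive.a5_four
    obtain ⟨v, hv, hv1, h1, h2⟩ := a5_tetra
    exact push e _ _ v ha hb ha1 hb1 hne hab hv hv1 h1 h2
  · obtain ⟨hz, hd, -, hz1, hzd, -, -⟩ := SpecFive.a6_basic
    obtain ⟨-, -, hd1, -, hdz, -⟩ := a6_noncomm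
    obtain ⟨v, hv, hv1, h1, h2⟩ := a6_tetra
    exact push e _ _ v hz hd hz1 hd1 (Ne.symm hdz) hzd hv hv1 h1 h2

variable {G : Type u} [Group G] [Finite G]

/-- A non-trivial `O₅` and an involution force solvability. -/
theorem Ord6.solvable_of_five_core (h : Ord6 G) (hM : pCore 5 G ≠ ⊥) (h2 : 2 ∣ Nat.card G) :
    Group.IsSolvable G := by
  haveI : Fact (Nat.Prime 5) := ⟨Nat.prime_five⟩
  have hQ : Group.IsSolvable (G ⧸ pCore 5 G) :=
    CfsgLib.Chars.Apps.isSolvable_of_primeFactors_subset _ Nat.prime_two Nat.prime_three fun r hr hd => by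
      rcases (h.quotient (pCore 5 G)).prime_cases hr hd with rfl | rfl | rfl
      exacts [Or.inl rfl, Or.inr rfl, absurd hd (h.five_core_quotient hM h2).2]
  have hP : Group.IsSolvable (pCore 5 G) := by
    haveI := (CfsgLib.Constrained.isPGroup_pCore (p := 5) (G := G)).isNilpotent
    infer_instance
  exact (Group.isSolvable_iff_subgroup_quotient (pCore 5 G)).2 ⟨hP, hQ⟩

/-- The case of a non-trivial `O₅`. -/
theorem Ord6.five_core_case (h : Ord6 G) (hM : pCore 5 G ≠ ⊥) {x a : G} (hx : orderOf x = 4)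
    (ha : orderOf a = 6) :
    (∃ (N : Subgroup G) (_ : N.Normal), Cfsg.IsElementaryAbelian 5 N ∧
      (Nonempty (G ⧸ N ≃* QuaternionGroup 3) ∨
        Nonempty (G ⧸ N ≃* Matrix.SpecialLinearGroup (Fin 2) (ZMod 3)))) := by
  haveI : Fact (Nat.Prime 5) := ⟨Nat.prime_five⟩
  have h2 : 2 ∣ Nat.card G := (show 2 ∣ 4 by norm_num).trans (hx ▸ orderOf_dvd_natCard x)
  set M := pCore 5 G with hMdef
  have hM5 : IsPGroup 5 M := CfsgLib.Constrained.isPGroup_pCore
  have hx4 : x ^ 4 = 1 := orderOf_dvd_iff_pow_eq_one.1 hx.dvd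
  have hx2 : x ^ 2 ≠ 1 := fun e => by
    have := orderOf_dvd_of_pow_eq_one e
    rw [hx] at this; norm_num at this
  have ha6 : a ^ 6 = 1 := orderOf_dvd_iff_pow_eq_one.1 ha.dvd
  have ha2 : a ^ 2 ≠ 1 := fun e => by
    have := orderOf_dvd_of_pow_eq_one e
    rw [ha] at this; norm_num at this
  have ha3 : a ^ 3 ≠ 1 := fun e => by
    have := orderOf_dvd_of_pow_eq_one e
    rw [ha] at this; norm_num at this
  have hsq : x ^ 2 * x ^ 2 = 1 := by rw [← pow_add]; exact hx4
  have hab := (h.involution_inverts hM5 hsq hx2).2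
  refine ⟨M, inferInstance, ⟨⟨⟨fun u v => Subtype.ext (hab u u.2 v v.2).eq⟩⟩,
    fun u hu => h.pow_five_group hM5 hu⟩, ?_⟩
  obtain ⟨huni, h5⟩ := h.five_core_quotient hM h2
  have h9 : ¬ 3 ^ 2 ∣ Nat.card (G ⧸ M) := fun hd =>
    not_sq_dvd Nat.prime_three (fun H hH b hb => h.pow_three_group hH hb)
      (fun u v hu hu1 hv hc => mem_zpowers_of_fpf M hM hab Nat.prime_three (p := 5) (by norm_num)
        (fun w hw => h.pow_five_group hM5 hw)
        (fun g hg hg1 w hw hgw => by
          by_contra hw1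
          exact hg1 (eq_one_of_pow_coprime (show Nat.Coprime 3 5 by norm_num) hg
            (h.commute_five (h.pow_five_group hM5 hw) hw1 hgw.symm)))
        hu hu1 hv hc) (hd.trans (Subgroup.card_quotient_dvd_card M))
  have down : ∀ g : G, ∀ n k : ℕ, g ^ k = 1 → Nat.Coprime k (n * 5) ∨ Nat.Coprime k 5 →
      (g : G ⧸ M) ^ n = 1 → g ^ n = 1 := by
    intro g n k hk hco hn
    have h5' : (g ^ n) ^ 5 = 1 := h.pow_five_group hM5 ((QuotientGroup.eq_one_iff _).1 (by
      rw [QuotientGroup.mk_pow]; exact hn))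
    have hk' : (g ^ n) ^ k = 1 := by rw [← pow_mul, mul_comm, pow_mul, hk, one_pow]
    refine eq_one_of_pow_coprime ?_ hk' h5'
    rcases hco with e | e
    exacts [e.coprime_mul_left_right, e]
  refine complement_cases (h.quotient M) h5 h9 huni (x := (x : G ⧸ M)) (a := (a : G ⧸ M)) ?_ ?_
  · refine orderOf_eq_prime_pow (p := 2) (n := 1) (fun e => hx2 (down x 2 4 hx4 (Or.inr (by norm_num)) ?_)) ?_
    · simpa using e
    · rw [← QuotientGroup.mk_pow]; norm_num [hx4]
  · refine (orderOf_eq_iff (by norm_num)).2 ⟨by rw [← QuotientGroup.mk_pow, ha6]; rfl, fun m hm hm0 e => ?_⟩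
    have e' := down a m 6 ha6 (Or.inr (by norm_num)) e
    have := orderOf_dvd_of_pow_eq_one e'
    rw [ha] at this
    have := Nat.le_of_dvd hm0 this
    omega

/-- Nonabelian simple groups of this kind are `A₅` or `A₆`, without elements of order six. -/
theorem simple_cases (hrec : NoSix.{u}) {M : Type u} [Group M] [Finite M] (hM : IsSimpleGroup M)
    (hna : ¬ IsMulCommutative M) (h : Ord6 M) :
    (∀ g : M, orderOf g ≠ 6) ∧ (Nonempty (M ≃* A5) ∨ Nonempty (M ≃* A6)) := by
  have h6 := hrec (Nat.card M + 1) M (Nat.lt_succ_self _) hM hna h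
  exact ⟨h6, concl_of_noSix hna h h6⟩

/-- A radical free group of this kind has a simple normal subgroup with trivial centraliser. -/
theorem Ord6.socle (hrec : NoSix.{u}) (h : Ord6 G) (hns : ¬ Group.IsSolvable G)
    (hrad : ∀ N : Subgroup G, N.Normal → Group.IsSolvable N → N = ⊥) :
    ∃ N : Subgroup G, N.Normal ∧ IsSimpleGroup N ∧ (∀ g : N, orderOf g ≠ 6) ∧
      (Nonempty (N ≃* A5) ∨ Nonempty (N ≃* A6)) ∧ Subgroup.centralizer (N : Set G) = ⊥ ∧
      ∀ X : Subgroup G, X.Normal → X ≠ ⊥ → N ≤ X := by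
  haveI : Fact (Nat.Prime 5) := ⟨Nat.prime_five⟩
  haveI : Fact (Nat.Prime 3) := ⟨Nat.prime_three⟩
  haveI : Nontrivial G := by
    by_contra hn
    haveI := not_nontrivial_iff_subsingleton.1 hn
    exact hns (Group.isSolvable_of_comm fun u v => Subsingleton.elim _ _)
  obtain ⟨N, hN⟩ := CfsgLib.MinNormal.exists_isMinNormal (G := G)
  haveI := hN.normal
  have hna : ¬ IsMulCommutative N := fun hc => hN.ne_bot (hrad N hN.normal
    (Group.isSolvable_of_comm fun u v => hc.is_comm.comm u v))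
  obtain ⟨s, hs⟩ := hN.exists_isFactors hna
  have nsol : ∀ S ∈ s, ¬ Group.IsSolvable S := fun S hS hsol => by
    haveI := hs.simple S hS
    exact hs.not_comm S hS ⟨⟨IsSimpleGroup.comm_iff_isSolvable.2 hsol⟩⟩
  obtain ⟨S, hS⟩ := hs.nonempty
  have hone : ∀ T ∈ s, T = S := by
    intro T hT
    by_contra hne
    obtain ⟨f, hf⟩ := exists_prime_orderOf_dvd_card' 5 ((h.subgroup S).dvd_of_not_solvable (nsol S hS)).2
    obtain ⟨c, hc⟩ := exists_prime_orderOf_dvd_card' 3 ((h.subgroup T).dvd_of_not_solvable (nsol T hT)).1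
    rw [← Subgroup.orderOf_coe] at hf hc
    have hc5 := h.commute_five (orderOf_dvd_iff_pow_eq_one.1 hf.dvd)
      (fun e => by rw [e, orderOf_one] at hf; norm_num at hf) (hs.commute S hS T hT (Ne.symm hne) f f.2 c c.2)
    have := orderOf_dvd_of_pow_eq_one hc5
    rw [hc] at this; norm_num at this
  have hSN : S = N := by
    refine le_antisymm (hs.le S hS) ?_
    rw [← hs.sup_eq]
    exact Finset.sup_le fun T hT => (hone T hT).le
  subst hSN
  obtain ⟨h6, hA⟩ := simple_cases hrec (hs.simple S hS) hna (h.subgroup S)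
  have hC : Subgroup.centralizer (S : Set G) = ⊥ := by
    refine hrad _ inferInstance (CfsgLib.Chars.Apps.isSolvable_of_primeFactors_subset _ Nat.prime_two
      Nat.prime_three fun r hr hd => ?_)
    rcases (h.subgroup _).prime_cases hr hd with rfl | rfl | rfl
    · exact Or.inl rfl
    · exact Or.inr rfl
    exfalso
    obtain ⟨f, hf⟩ := exists_prime_orderOf_dvd_card' 5 hd
    obtain ⟨c, hc⟩ := exists_prime_orderOf_dvd_card' 3 ((h.subgroup S).dvd_of_not_solvable (nsol S hS)).1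
    rw [← Subgroup.orderOf_coe] at hf hc
    have hc5 := h.commute_five (orderOf_dvd_iff_pow_eq_one.1 hf.dvd)
      (fun e => by rw [e, orderOf_one] at hf; norm_num at hf)
      (Subgroup.mem_centralizer_iff.1 f.2 c c.2).symm
    have := orderOf_dvd_of_pow_eq_one hc5
    rw [hc] at this; norm_num at this
  refine ⟨S, inferInstance, hs.simple S hS, h6, hA, hC, fun X hX hX1 => ?_⟩
  by_contra hle
  refine hX1 (eq_bot_iff.2 (le_trans (fun w hw => ?_) hC.le))
  refine Subgroup.mem_centralizer_iff.2 fun v hv => ?_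
  exact (Subgroup.commute_of_normal_of_disjoint S X inferInstance hX
    (disjoint_iff.2 ((hN.le_or_inf_eq_bot hX).resolve_left hle)) v w hv hw).eq

/-- Almost simple: `S₅` or `S₆`. -/
theorem Ord6.almost_simple (h : Ord6 G) (N : Subgroup G) [N.Normal]
    (h6N : ∀ g : N, orderOf g ≠ 6) (hA : Nonempty (N ≃* A5) ∨ Nonempty (N ≃* A6))
    (hC : Subgroup.centralizer (N : Set G) = ⊥) {a : G} (ha : orderOf a = 6) :
    Nonempty (G ≃* Equiv.Perm (Fin 5)) ∨ Nonempty (G ≃* Equiv.Perm (Fin 6)) := by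
  have hlt : Nat.card N < Nat.card G := (Subgroup.card_le_card_group N).lt_of_ne fun he =>
    h6N ⟨a, (Subgroup.eq_top_of_card_eq _ he) ▸ Subgroup.mem_top a⟩ (by rw [Subgroup.orderOf_mk, ha])
  have hdvd : Nat.card N ∣ Nat.card G := Subgroup.card_subgroup_dvd_card N
  have inj : ∀ {K : Type} [Group K] (e : N ≃* K),
      Function.Injective ((MulAut.congr e).toMonoidHom.comp (MulAut.conjNormal (H := N))) := by
    intro K _ e
    refine (injective_iff_map_eq_one _).2 fun g hg => ?_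
    have hg' : MulAut.conjNormal (H := N) g = 1 :=
      (MulAut.congr e).injective (hg.trans (map_one _).symm)
    refine Subgroup.mem_bot.1 (hC ▸ Subgroup.mem_centralizer_iff.2 fun n hn => ?_)
    exact (mul_inv_eq_iff_eq_mul.1 (congrArg Subtype.val (DFunLike.congr_fun hg' ⟨n, hn⟩))).symm
  rcases hA with ⟨⟨e⟩⟩ | ⟨⟨e⟩⟩
  · left
    set θ := (MulAut.congr e).toMonoidHom.comp (MulAut.conjNormal (H := N))
    let q := (MulEquiv.ofBijective _ (Cfsg.Agent.S2119.result 5 (by norm_num) (by norm_num))).symm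
    let f : G →* Equiv.Perm (Fin 5) := q.toMonoidHom.comp θ
    have hf : Function.Injective f := q.injective.comp (inj e)
    have h120 := Subgroup.card_dvd_of_injective f hf
    rw [Nat.card_perm, Nat.card_fin] at h120
    rw [Nat.card_congr e.toEquiv, SpecFive.natCard_A5] at hlt hdvd
    refine ⟨MulEquiv.ofBijective f ((Nat.bijective_iff_injective_and_card f).2 ⟨hf, ?_⟩)⟩
    rw [Nat.card_perm, Nat.card_fin]
    obtain ⟨k, hk⟩ := hdvd
    have := Nat.le_of_dvd (Nat.factorial_pos 5) h120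
    simp only [Nat.factorial] at this ⊢
    omega
  · right
    set θ := (MulAut.congr e).toMonoidHom.comp (MulAut.conjNormal (H := N)) with hθ
    have hinner : ∀ k : A6, MulAut.conj k ∈ θ.range := fun k => ⟨(e.symm k : N), MulEquiv.ext fun b => by
      obtain ⟨n, rfl⟩ := e.surjective b
      show e (MulAut.conjNormal ((e.symm k : N) : G) (e.symm (e n))) = k * e n * k⁻¹
      rw [MulEquiv.symm_apply_apply, show MulAut.conjNormal ((e.symm k : N) : G) n =
        e.symm k * n * (e.symm k)⁻¹ from Subtype.ext (by rw [MulAut.conjNormal_apply]; rfl),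
        map_mul, map_mul, map_inv, MulEquiv.apply_symm_apply]⟩
    have hrange : θ.range ≤ (MulAut.conjNormal : Equiv.Perm (Fin 6) →* MulAut A6).range := fun φ hφ =>
      mem_range_of_ord6 θ.range (h.of_surjective θ.rangeRestrict θ.rangeRestrict_surjective) hinner hφ
    let c : Equiv.Perm (Fin 6) →* MulAut A6 := MulAut.conjNormal
    have hc : Function.Injective c := Cfsg.Agent.S2119.injective_conjNormal (by simp)
    let q := (MonoidHom.ofInjective hc).symm
    let f : G →* Equiv.Perm (Fin 6) :=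
      q.toMonoidHom.comp ((Subgroup.inclusion hrange).comp θ.rangeRestrict)
    have hf : Function.Injective f := q.injective.comp ((Subgroup.inclusion_injective hrange).comp
      fun u v huv => inj e (congrArg Subtype.val huv))
    have h720 := Subgroup.card_dvd_of_injective f hf
    rw [Nat.card_perm, Nat.card_fin] at h720
    rw [Nat.card_congr e.toEquiv, SpecFive.natCard_A6] at hlt hdvd
    refine ⟨MulEquiv.ofBijective f ((Nat.bijective_iff_injective_and_card f).2 ⟨hf, ?_⟩)⟩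
    rw [Nat.card_perm, Nat.card_fin]
    obtain ⟨k, hk⟩ := hdvd
    have := Nat.le_of_dvd (Nat.factorial_pos 6) h720
    simp only [Nat.factorial] at this ⊢
    omega

/-- With `O₅ = 1` the solvable radical is `O₂`. -/
theorem Ord6.radical_le_two_core (h : Ord6 G) (hrec : NoSix.{u}) {R : Subgroup G} [R.Normal]
    (hRs : Group.IsSolvable R) (hns : ¬ Group.IsSolvable (G ⧸ R))
    (hrad : ∀ N : Subgroup (G ⧸ R), N.Normal → Group.IsSolvable N → N = ⊥) :
    R ≤ pCore 2 G ∧ (R ≠ ⊥ → Subgroup.centralizer (R : Set G) ≤ R) := by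
  classical
  haveI : Fact (Nat.Prime 2) := ⟨Nat.prime_two⟩
  haveI : Fact (Nat.Prime 3) := ⟨Nat.prime_three⟩
  haveI : Fact (Nat.Prime 5) := ⟨Nat.prime_five⟩
  set φ := QuotientGroup.mk' R with hφ
  obtain ⟨N, hNn, hNs, -, hA, -, hle⟩ := (h.quotient R).socle hrec hns hrad
  haveI := hNn
  obtain ⟨a, b, v, ha, hb, ha1, hb1, hne, hab, hv, hv1, hva, hvb⟩ := exists_tetra hA
  obtain ⟨f₀, hf₀⟩ : ∃ f : N, orderOf f = 5 :=
    exists_prime_orderOf_dvd_card' 5 (((h.quotient R).subgroup N).dvd_of_not_solvable fun hs => by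
      rcases hA with ⟨⟨e⟩⟩ | ⟨⟨e⟩⟩
      exacts [SpecFive.Concl.not_solvable (Or.inl ⟨e⟩) hs, SpecFive.Concl.not_solvable (Or.inr ⟨e⟩) hs]).2
  rw [← Subgroup.orderOf_coe] at hf₀
  have hf1 : (f₀ : G ⧸ R) ≠ 1 := fun e => by rw [e, orderOf_one] at hf₀; norm_num at hf₀
  have hf5 : (f₀ : G ⧸ R) ^ 5 = 1 := orderOf_dvd_iff_pow_eq_one.1 hf₀.dvd
  -- the radical has order prime to five
  have hR5 : ¬ 5 ∣ Nat.card R := by
    intro hd
    obtain ⟨P⟩ : Nonempty (Sylow 5 R) := inferInstance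
    set K := Subgroup.normalizer (((P : Subgroup R).map R.subtype : Subgroup G) : Set G) with hK
    have hKR : K ⊔ R = ⊤ := Sylow.normalizer_sup_eq_top P
    have hsur : Function.Surjective (φ.comp K.subtype) := fun g => by
      obtain ⟨w, rfl⟩ := QuotientGroup.mk'_surjective R g
      obtain ⟨k, hk, r, hr, rfl⟩ := Subgroup.mem_sup_of_normal_right.1 (show w ∈ K ⊔ R by rw [hKR]; trivial)
      refine ⟨⟨k, hk⟩, ?_⟩
      show φ k = φ (k * r)
      rw [map_mul, show φ r = 1 from (QuotientGroup.eq_one_iff r).2 hr, mul_one]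
    have h2K : 2 ∣ Nat.card K := by
      refine dvd_trans ?_ (Subgroup.card_dvd_of_surjective _ hsur)
      refine dvd_trans ?_ (Subgroup.card_subgroup_dvd_card N)
      refine dvd_trans ?_ (orderOf_dvd_natCard a)
      rw [orderOf_eq_prime (by rw [pow_two, ha]) ha1]
    set W := ((P : Subgroup R).map R.subtype).subgroupOf K with hW
    haveI : W.Normal := Subgroup.normal_in_normalizer
    have hW5 : IsPGroup 5 W := (P.isPGroup'.map R.subtype).comap_of_injective _ K.subtype_injective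
    have hcore : pCore 5 K ≠ ⊥ := by
      intro e
      have hWb : W = ⊥ := eq_bot_iff.2 (e ▸ CfsgLib.Constrained.le_pCore inferInstance hW5)
      rw [hW, Subgroup.subgroupOf_eq_bot] at hWb
      have := hWb.eq_bot_of_le (Subgroup.le_normalizer (H := (P : Subgroup R).map R.subtype))
      rw [Subgroup.map_eq_bot_iff_of_injective _ R.subtype_injective] at this
      exact P.ne_bot_of_dvd_card hd this
    haveI := (h.subgroup K).solvable_of_five_core hcore h2K
    exact hns (Group.isSolvable_of_surjective (f := φ.comp K.subtype) hsur)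
  have hRn : Group.IsNilpotent R := by
    obtain ⟨x, hx⟩ := exists_prime_orderOf_dvd_card' 5 (show 5 ∣ Nat.card G from
      ((hf₀ ▸ orderOf_dvd_natCard (f₀ : G ⧸ R)).trans (Subgroup.card_quotient_dvd_card R)))
    exact h.nilpotent_of_not_five hx hR5
  -- modulo `O₂` the radical is a 3-group
  set O := pCore 2 G with hO
  set π := QuotientGroup.mk' O with hπ
  have hOR : O ≤ R := by
    have hX : Group.IsSolvable (O.map φ) := by
      haveI := ((CfsgLib.Constrained.isPGroup_pCore (p := 2) (G := G)).map φ).isNilpotent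
      infer_instance
    have := hrad _ ((inferInstance : O.Normal).map φ (QuotientGroup.mk'_surjective R)) hX
    rw [Subgroup.map_eq_bot_iff, QuotientGroup.ker_mk'] at this
    exact this
  have h1 := h.quotient O
  let ψ : G ⧸ O →* G ⧸ R := QuotientGroup.lift O φ fun g hg => (QuotientGroup.eq_one_iff g).2 (hOR hg)
  have hψs : Function.Surjective ψ := fun g => by
    obtain ⟨w, rfl⟩ := QuotientGroup.mk'_surjective R g; exact ⟨π w, rfl⟩
  have hR1 : ∀ g : G ⧸ O, g ∈ R.map π ↔ ψ g = 1 := by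
    intro g
    obtain ⟨w, rfl⟩ := QuotientGroup.mk'_surjective O g
    show _ ↔ φ w = 1
    rw [show φ w = 1 ↔ w ∈ R from QuotientGroup.eq_one_iff w, ← Subgroup.mem_comap,
      Subgroup.comap_map_eq, QuotientGroup.ker_mk', sup_of_le_left hOR]
  have hR13 : ∀ g ∈ R.map π, g ^ 3 = 1 := by
    rintro _ ⟨r, hr, rfl⟩
    rw [← map_pow]
    refine (QuotientGroup.eq_one_iff _).2 ?_
    rcases h r with e | e | e
    · exact O.pow_mem (mem_core_of_nilpotent hRn hr (k := 2) (by simpa using e)) 3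
    · rw [eq_one_of_pow_coprime (m := 5) (n := Nat.card R) (Nat.prime_five.coprime_iff_not_dvd.2 hR5) e
        (congrArg Subtype.val (pow_card_eq_one' (x := (⟨r, hr⟩ : R)))), one_pow]
      exact O.one_mem
    · exact mem_core_of_nilpotent hRn (R.pow_mem hr 3) (k := 1) (by rw [← pow_mul]; exact e)
  have hR1p : IsPGroup 3 (R.map π) := fun g => ⟨1, Subtype.ext (by simpa using hR13 g g.2)⟩
  haveI : (R.map π).Normal := (inferInstance : R.Normal).map π (QuotientGroup.mk'_surjective O)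
  have lift3 : ∀ g : G ⧸ O, ψ g ^ 3 = 1 → ψ g ≠ 1 → g ^ 3 = 1 := by
    intro g hg hg1
    rcases h1 g with e | e | e
    · exact absurd (eq_one_of_pow_coprime (show Nat.Coprime 4 3 by norm_num) (by rw [← map_pow, e, map_one]) hg) hg1
    · exact absurd (eq_one_of_pow_coprime (show Nat.Coprime 5 3 by norm_num) (by rw [← map_pow, e, map_one]) hg) hg1
    · exact eq_one_of_pow_coprime (show Nat.Coprime 2 3 by norm_num) (by rw [← pow_mul]; exact e)
        (hR13 _ ((hR1 _).2 (by rw [map_pow, hg])))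
  have hR1bot : R.map π = ⊥ := by
    set K₄ := fourSub (a : G ⧸ R) (b : G ⧸ R) (by rw [← Subgroup.coe_mul, ha, Subgroup.coe_one])
      (by rw [← Subgroup.coe_mul, hb, Subgroup.coe_one]) (hab.map N.subtype) with hK₄
    obtain ⟨w, hw⟩ := hψs v
    have hv' : (v : G ⧸ R) ^ 3 = 1 := by
      rw [← Subgroup.coe_pow, pow_succ, pow_two, hv, Subgroup.coe_one]
    have hv1' : (v : G ⧸ R) ≠ 1 := fun e => hv1 (Subtype.ext e)
    have hw3 : w ^ 3 = 1 := lift3 w (by rw [hw]; exact hv') (by rw [hw]; exact hv1')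
    have ca : (v : G ⧸ R) * a * (v : G ⧸ R)⁻¹ = b := congrArg Subtype.val hva
    have cb : (v : G ⧸ R) * b * (v : G ⧸ R)⁻¹ = a * b := congrArg Subtype.val hvb
    have cab : (v : G ⧸ R) * (a * b) * (v : G ⧸ R)⁻¹ = a := by
      calc (v : G ⧸ R) * (a * b) * (v : G ⧸ R)⁻¹ = v * a * (v : G ⧸ R)⁻¹ * (v * b * (v : G ⧸ R)⁻¹) := by group
        _ = b * (b * a) := by rw [ca, cb, show (a : G ⧸ R) * b = b * a from congrArg Subtype.val hab.eq]
        _ = a := by rw [← mul_assoc, ← Subgroup.coe_mul, hb, Subgroup.coe_one, one_mul]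
    have ha' : (a : G ⧸ R) ≠ 1 := fun e => ha1 (Subtype.ext e)
    have hb' : (b : G ⧸ R) ≠ 1 := fun e => hb1 (Subtype.ext e)
    have hne' : (a : G ⧸ R) ≠ b := fun e => hne (Subtype.ext e)
    have hab' : (a : G ⧸ R) * b ≠ 1 := fun e => hne' (by
      rw [eq_inv_of_mul_eq_one_left e, inv_eq_of_mul_eq_one_right]
      rw [← Subgroup.coe_mul, hb, Subgroup.coe_one])
    have nfix : ∀ g ∈ K₄, (v : G ⧸ R) * g * (v : G ⧸ R)⁻¹ = g → g = 1 := by
      intro g hg e
      rcases mem_fourSub.1 hg with rfl | rfl | rfl | rfl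
      · rfl
      · exact absurd (ca.symm.trans e).symm hne'
      · exact absurd (mul_eq_right.1 (cb.symm.trans e)) ha'
      · exact absurd (mul_eq_left.1 (cab.symm.trans e).symm) hb'
    have hcen := centralizes_of_norm (p := 3) (Nat.card (R.map π)) (R.map π) le_rfl hR1p (K₄.comap ψ)
      (fun g hg => by
        show ψ g ∈ K₄
        rw [(hR1 g).1 hg]; exact K₄.one_mem) (by
        have hker : R.map π = (⊥ : Subgroup (G ⧸ R)).comap ψ := by
          ext g; rw [hR1 g, Subgroup.mem_comap, Subgroup.mem_bot]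
        rw [hker, Subgroup.relIndex_comap, Subgroup.map_comap_eq_self_of_surjective hψs,
          Subgroup.relIndex_bot_left]
        have hsub : (K₄ : Set (G ⧸ R)) =
            ↑({1, (a : G ⧸ R), (b : G ⧸ R), (a : G ⧸ R) * b} : Finset (G ⧸ R)) := by
          ext g
          simp only [Finset.coe_insert, Finset.coe_singleton, Set.mem_insert_iff, Set.mem_singleton_iff]
          exact mem_fourSub
        have hc4 : Nat.card K₄ ≤ 4 := by
          show Nat.card (K₄ : Set (G ⧸ R)) ≤ 4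
          rw [hsub, Nat.card_coe_set_eq, Set.ncard_coe_finset]
          exact Finset.card_le_four
        intro hd
        have h3le := Nat.le_of_dvd Nat.card_pos hd
        obtain ⟨k, hk⟩ := hd
        have h2d : 2 ∣ Nat.card K₄ := by
          have := Subgroup.orderOf_dvd_natCard K₄ (show (a : G ⧸ R) ∈ K₄ from mem_fourSub.2 (Or.inr (Or.inl rfl)))
          rwa [orderOf_eq_prime (by rw [pow_two, ← Subgroup.coe_mul, ha, Subgroup.coe_one]) ha'] at this
        omega) w ?_ 3
      (by norm_num) ?_ ?_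
    · -- `a` lifts to a 2-element centralising the radical
      obtain ⟨k₀, hk₀⟩ := hψs a
      have ha2 : (a : G ⧸ R) ^ 2 = 1 := by rw [← Subgroup.coe_pow, pow_two, ha, Subgroup.coe_one]
      obtain ⟨k, hk, hk4⟩ : ∃ k, ψ k = (a : G ⧸ R) ∧ k ^ 4 = 1 := by
        rcases h1 k₀ with e | e | e
        · exact ⟨k₀, hk₀, e⟩
        · exact absurd (eq_one_of_pow_coprime (show Nat.Coprime 2 5 by norm_num) ha2
            (by rw [← hk₀, ← map_pow, e, map_one])) ha'
        · refine ⟨k₀ ^ 3, by rw [map_pow, hk₀, pow_succ, ha2, one_mul], ?_⟩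
          rw [← pow_mul, show 3 * 4 = 6 * 2 from rfl, pow_mul, e, one_pow]
      have hkC : k ∈ Subgroup.centralizer (R.map π : Set (G ⧸ O)) := Subgroup.mem_centralizer_iff.2 fun r hr =>
        (hcen k (by show ψ k ∈ K₄; rw [hk]; exact mem_fourSub.2 (Or.inr (Or.inl rfl)))
          ((show Nat.Coprime 4 3 by norm_num).coprime_dvd_left (orderOf_dvd_of_pow_eq_one hk4)) r hr).symm.eq
      have hC : N ≤ (Subgroup.centralizer (R.map π : Set (G ⧸ O))).map ψ :=
        hle _ ((inferInstance : (Subgroup.centralizer (R.map π : Set (G ⧸ O))).Normal).map ψ hψs)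
          fun e => ha' (hk ▸ Subgroup.mem_bot.1 (e ▸ Subgroup.mem_map_of_mem ψ hkC))
      obtain ⟨c, hc, hcf⟩ := hC f₀.2
      have hc5 : c ^ 5 = 1 := h1.pow_of_image_five ψ (by rw [hcf]; exact hf5) (by rw [hcf]; exact hf1)
      refine eq_bot_iff.2 fun r hr => Subgroup.mem_bot.2 (eq_one_of_pow_coprime
        (show Nat.Coprime 5 3 by norm_num) (h1.commute_five hc5 (fun e => hf1 (by rw [← hcf, e, map_one]))
          (Subgroup.mem_centralizer_iff.1 hc r hr).symm) (hR13 r hr))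
    · intro k hk
      show ψ (w * k * w⁻¹) ∈ K₄
      rw [map_mul, map_mul, map_inv, hw]
      rcases mem_fourSub.1 (show ψ k ∈ K₄ from hk) with e | e | e | e <;> rw [e]
      · rw [mul_one, mul_inv_cancel]; exact K₄.one_mem
      · rw [ca]; exact mem_fourSub.2 (Or.inr (Or.inr (Or.inl rfl)))
      · rw [cb]; exact mem_fourSub.2 (Or.inr (Or.inr (Or.inr rfl)))
      · rw [cab]; exact mem_fourSub.2 (Or.inr (Or.inl rfl))
    · intro j hj hj3 k hk hm
      refine (hR1 k).2 ?_
      have e := (hR1 _).1 hm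
      rw [map_mul, map_mul, map_mul, map_inv, map_inv, map_pow, hw, mul_inv_eq_one] at e
      refine nfix _ hk ?_
      interval_cases j
      · rwa [pow_one] at e
      · rw [show (v : G ⧸ R) ^ 2 = (v : G ⧸ R)⁻¹ from eq_inv_of_mul_eq_one_left (by rw [← pow_succ]; exact hv'),
          inv_inv] at e
        calc (v : G ⧸ R) * ψ k * (v : G ⧸ R)⁻¹ = v * ((v : G ⧸ R)⁻¹ * ψ k * v) * (v : G ⧸ R)⁻¹ := by rw [e]
          _ = ψ k := by group
    · intro o ho
      have e : ψ (o * w) = (v : G ⧸ R) := by rw [map_mul, (hR1 o).1 ho, one_mul, hw]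
      rw [hw3, lift3 _ (by rw [e]; exact hv') (by rw [e]; exact hv1')]
  have hRO : R ≤ O := by
    rwa [Subgroup.map_eq_bot_iff, QuotientGroup.ker_mk'] at hR1bot
  refine ⟨hRO, fun hR1ne => ?_⟩
  have hX := hle ((Subgroup.centralizer (R : Set G)).map φ)
    ((inferInstance : (Subgroup.centralizer (R : Set G)).Normal).map φ (QuotientGroup.mk'_surjective R))
  by_contra hC
  obtain ⟨c, hc, hcf⟩ := hX (fun e => hC (by rwa [Subgroup.map_eq_bot_iff, QuotientGroup.ker_mk'] at e)) f₀.2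
  have hc5 : c ^ 5 = 1 := h.pow_of_image_five φ (by rw [hcf]; exact hf5) (by rw [hcf]; exact hf1)
  obtain ⟨r, hr, hr1⟩ := R.bot_or_exists_ne_one.resolve_left hR1ne
  exact hr1 (eq_one_of_pow_coprime (show Nat.Coprime 5 4 by norm_num)
    (h.commute_five hc5 (fun e => hf1 (by rw [← hcf, e, map_one])) (Subgroup.mem_centralizer_iff.1 hc r hr).symm)
    (h.pow_two_group CfsgLib.Constrained.isPGroup_pCore (hRO hr)))

/-- The structure theorem, from the two residual facts. -/
theorem structure_of_noSix (hrange : Set.range (orderOf : G → ℕ) = {k : ℕ | 1 ≤ k ∧ k ≤ 6})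
    (hrec : NoSix.{u})
    (hres : ∀ (X : Type u) [Group X] [Finite X], Ord6 X → ¬ Group.IsSolvable X →
      Subgroup.centralizer (Cfsg.pCore 2 X : Set X) ≤ Cfsg.pCore 2 X →
      SpecFive.Elem (Cfsg.pCore 2 X) ∧ Nonempty (X ⧸ Cfsg.pCore 2 X ≃* SpecFive.A5)) :
    (∃ (N : Subgroup G) (_ : N.Normal), Cfsg.IsElementaryAbelian 5 N ∧
        (Nonempty (G ⧸ N ≃* QuaternionGroup 3) ∨ Nonempty (G ⧸ N ≃* Matrix.SpecialLinearGroup (Fin 2) (ZMod 3)))) ∨
      (∃ (N : Subgroup G) (_ : N.Normal), Cfsg.IsElementaryAbelian 2 N ∧ Nonempty (G ⧸ N ≃* ↥(alternatingGroup (Fin 5)))) ∨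
      Nonempty (G ≃* Equiv.Perm (Fin 5)) ∨ Nonempty (G ≃* Equiv.Perm (Fin 6)) := by
  have hmem : ∀ g : G, orderOf g ≤ 6 := fun g => by
    have : orderOf g ∈ {k : ℕ | 1 ≤ k ∧ k ≤ 6} := hrange ▸ ⟨g, rfl⟩
    exact this.2
  have h : Ord6 G := ord6_of_range hmem
  have has : ∀ k, 1 ≤ k → k ≤ 6 → ∃ g : G, orderOf g = k := fun k h1 h6 => by
    obtain ⟨g, hg⟩ : k ∈ Set.range (orderOf : G → ℕ) := by rw [hrange]; exact ⟨h1, h6⟩
    exact ⟨g, hg⟩
  obtain ⟨x, hx⟩ := has 4 (by norm_num) (by norm_num)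
  obtain ⟨a, ha⟩ := has 6 (by norm_num) le_rfl
  obtain ⟨f, hf⟩ := has 5 (by norm_num) (by norm_num)
  by_cases hM : pCore 5 G = ⊥
  swap
  · exact Or.inl (h.five_core_case hM hx ha)
  right
  have hns := h.not_solvable_of_five_core hM ((show 3 ∣ 6 by norm_num).trans (ha ▸ orderOf_dvd_natCard a))
    (hf ▸ orderOf_dvd_natCard f) hx
  obtain ⟨R, ⟨hRn, hRs⟩, hRmax⟩ := Set.exists_max_image {N : Subgroup G | N.Normal ∧ Group.IsSolvable N}
    (fun N => Nat.card N) (Set.toFinite _) ⟨⊥, inferInstance, inferInstance⟩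
  haveI := hRn
  have hmax : ∀ N : Subgroup G, N.Normal → Group.IsSolvable N → N ≤ R := fun N hN hNs => by
    haveI := hN
    have h1 := hRmax (N ⊔ R) ⟨inferInstance, CfsgLib.FrobSystem.solvable_sup hNs hRs⟩
    rw [Subgroup.eq_of_le_of_card_ge (le_sup_right : R ≤ N ⊔ R) h1]
    exact le_sup_left
  have hQns : ¬ Group.IsSolvable (G ⧸ R) := fun hs => hns ((Group.isSolvable_iff_subgroup_quotient R).2 ⟨hRs, hs⟩)
  have hrad : ∀ N : Subgroup (G ⧸ R), N.Normal → Group.IsSolvable N → N = ⊥ := fun N hN hNs => by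
    haveI := hN
    have hle : R ≤ N.comap (QuotientGroup.mk' R) := fun w hw => by
      show QuotientGroup.mk' R w ∈ N
      rw [show QuotientGroup.mk' R w = 1 from (QuotientGroup.eq_one_iff w).2 hw]
      exact N.one_mem
    have hsol : Group.IsSolvable (N.comap (QuotientGroup.mk' R)) := by
      haveI := hNs; haveI := hRs
      exact Group.isSolvable_of_ker_le_range (Subgroup.inclusion hle) ((QuotientGroup.mk' R).subgroupComap N)
        fun w hw => ⟨⟨w, (QuotientGroup.eq_one_iff _).1 (congrArg Subtype.val hw)⟩, rfl⟩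
    rw [eq_bot_iff]
    intro w hw
    obtain ⟨g, rfl⟩ := QuotientGroup.mk_surjective w
    exact Subgroup.mem_bot.2 ((QuotientGroup.eq_one_iff g).2 (hmax _ (hN.comap _) hsol hw))
  obtain ⟨hRO, hRC⟩ := h.radical_le_two_core hrec hRs hQns hrad
  haveI : Fact (Nat.Prime 2) := ⟨Nat.prime_two⟩
  have hOR : pCore 2 G ≤ R := hmax _ inferInstance (by
    haveI := (CfsgLib.Constrained.isPGroup_pCore (p := 2) (G := G)).isNilpotent
    infer_instance)
  have hRe : pCore 2 G = R := le_antisymm hOR hRO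
  by_cases hR : R = ⊥
  · right
    subst hR
    obtain ⟨N, hN, -, h6, hA, hC, -⟩ := (h.quotient ⊥).socle hrec hQns hrad
    haveI := hN
    let e := QuotientGroup.quotientBot (G := G)
    rcases (h.quotient ⊥).almost_simple N h6 hA hC (a := e.symm a) (by rw [MulEquiv.orderOf_eq, ha]) with
      ⟨⟨q⟩⟩ | ⟨⟨q⟩⟩
    exacts [Or.inl ⟨e.symm.trans q⟩, Or.inr ⟨e.symm.trans q⟩]
  · left
    obtain ⟨hE, hQ⟩ := hres G h hns (by rw [hRe]; exact hRC hR)
    refine ⟨pCore 2 G, inferInstance, ⟨⟨⟨fun u v => Subtype.ext (hE.1 u u.2 v v.2).eq⟩⟩, fun u hu => ?_⟩, hQ⟩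
    rw [pow_two]; exact hE.2 u hu

end CfsgLib.SpecSix
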