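import Cfsg.Agent.SpecSix.CharTwo
import Cfsg.Agent.SpecSix.TopMixed
import Cfsg.Agent.CITTwoP.Simple
import Cfsg.Agent.Classical.Linear.Card
import Cfsg.Agent.S2475
import Cfsg.Agent.S0505
import Cfsg.Agent.S1296

/-!
# The simple groups with element orders at most six have no element of order six

Strong induction on the order; the cases are no element of order four (Suzuki's configuration),
characteristic 2 type, and 2-rank at most two.
-/

set_option autoImplicit false
set_option linter.unusedSectionVars false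
set_option linter.style.haveILetI false

namespace CfsgLib.SpecSix

open Cfsg
open CfsgLib.SpecFive (Elem A5)

universe u

variable {G : Type u} [Group G] [Finite G]

/-- The two-dimensional projective special linear groups among them. -/
theorem no_six_of_psl {F : Type} [Field F] [Fintype F]
    (e : G ≃* Matrix.ProjectiveSpecialLinearGroup (Fin 2) F) (h : Ord6 G)
    (hns : ¬ Group.IsSolvable G) (g : G) : orderOf g ≠ 6 := by
  obtain ⟨p, hchar⟩ := CharP.exists F
  haveI := hchar
  obtain ⟨n, hp, hq⟩ := FiniteField.card F p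
  have h4 : 4 ≤ Fintype.card F := by
    by_contra hlt
    have h2 : 2 ≤ Fintype.card F := Fintype.one_lt_card
    have hc := CfsgLib.Classical.Linear.card_psl_two (F := F)
    rw [← Nat.card_congr e.toEquiv] at hc
    refine hns (CfsgLib.Chars.Apps.isSolvable_of_primeFactors_subset G Nat.prime_two Nat.prime_three
      fun r hr hd => ?_)
    have hd' : r ∣ Fintype.card F * (Fintype.card F ^ 2 - 1) := hc ▸ Dvd.dvd.mul_left hd _
    rcases (show Fintype.card F = 2 ∨ Fintype.card F = 3 by omega) with e' | e' <;> rw [e'] at hd'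
    · rcases hr.dvd_mul.1 (show r ∣ 2 * 3 from hd') with e2 | e3
      · exact Or.inl ((Nat.prime_dvd_prime_iff_eq hr Nat.prime_two).1 e2)
      · exact Or.inr ((Nat.prime_dvd_prime_iff_eq hr Nat.prime_three).1 e3)
    · rcases hr.dvd_mul.1 (show r ∣ 3 * 2 ^ 3 from hd') with e3 | e2
      · exact Or.inr ((Nat.prime_dvd_prime_iff_eq hr Nat.prime_three).1 e3)
      · exact Or.inl ((Nat.prime_dvd_prime_iff_eq hr Nat.prime_two).1 (hr.dvd_of_dvd_pow e2))
  haveI : Fact p.Prime := ⟨hp⟩
  have hspec := Cfsg.Agent.S2475.result (F := F) p h4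
  have hle : ∀ m, m ∈ Set.range (orderOf : Matrix.ProjectiveSpecialLinearGroup (Fin 2) F → ℕ) → m ≤ 6 := by
    rintro m ⟨x, rfl⟩
    rw [← MulEquiv.orderOf_eq e.symm x]
    exact h.orderOf_le _
  rw [hspec] at hle
  have hp6 : p ≤ 6 := hle p (Or.inl dvd_rfl)
  have hq6 : (Fintype.card F + 1) / Nat.gcd 2 (Fintype.card F - 1) ≤ 6 := hle _ (Or.inr (Or.inr dvd_rfl))
  have hd : p ∣ Fintype.card F := hq ▸ dvd_pow_self p (by simp)
  have hg2 : Nat.gcd 2 (Fintype.card F - 1) ≤ 2 := Nat.le_of_dvd two_pos (Nat.gcd_dvd_left _ _)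
  have hle13 : Fintype.card F ≤ 13 := by
    have hpos : 0 < Nat.gcd 2 (Fintype.card F - 1) := Nat.gcd_pos_of_pos_left _ two_pos
    have := Nat.div_le_div_left hg2 hpos (a := Fintype.card F + 1)
    omega
  intro hg
  have h6 : 6 ∈ Set.range (orderOf : Matrix.ProjectiveSpecialLinearGroup (Fin 2) F → ℕ) :=
    ⟨e g, by rw [MulEquiv.orderOf_eq]; exact hg⟩
  rw [hspec] at h6
  simp only [Set.mem_ofPred_eq] at h6
  have hp2 := hp.two_le
  obtain ⟨q, hqe⟩ : ∃ q, q = Fintype.card F := ⟨_, rfl⟩
  rw [← hqe] at hd h6 hq6 hle13 h4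
  interval_cases q <;> interval_cases p <;>
    first
      | omega
      | (norm_num at hp; done)
      | (norm_num at hd; done)
      | (norm_num at hq6; done)
      | (norm_num at h6; done)

/-- Without elements of order four, they are two-dimensional projective special linear. -/
theorem no_six_of_no_four [IsSimpleGroup G] (hna : ¬ IsMulCommutative G) (h : Ord6 G)
    (h4 : ∀ g : G, orderOf g ≠ 4) (g : G) : orderOf g ≠ 6 := by
  have hns : ¬ Group.IsSolvable G := fun hs => hna ⟨⟨IsSimpleGroup.comm_iff_isSolvable.2 hs⟩⟩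
  have ht : CITTwoP.TwoP 3 G := by
    refine ⟨Nat.prime_three, by norm_num, fun x hx => ?_, fun x hx => ?_⟩
    all_goals
      refine orderOf_dvd_iff_pow_eq_one.1 ?_
      rcases h.orderOf_cases x with e | e | e | e | e | e
      all_goals first
        | exact absurd e (h4 x)
        | (rw [e] at hx; exfalso; revert hx; decide)
        | (rw [e]; done)
        | (rw [e]; decide)
  rcases CITTwoP.simple_classify ht hna with ⟨F, _, _, n, -, -, ⟨e⟩⟩ | ⟨F, _, _, -, ⟨e⟩⟩
  · exact no_six_of_psl e h hns g
  · exact no_six_of_psl e h hns g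

/-- With an element of order four, the centraliser of an involution is solvable. -/
theorem Ord6.involution_centralizer_solvable (h : Ord6 G) {t : G} (ht : orderOf t = 2) :
    Group.IsSolvable (Subgroup.centralizer ({t} : Set G)) := by
  refine CfsgLib.Chars.Apps.isSolvable_of_primeFactors_subset _ Nat.prime_two Nat.prime_three
    fun r hr hd => ?_
  rcases h.prime_cases_card hr (hd.trans (Subgroup.card_subgroup_dvd_card _)) with e | e | e
  · exact Or.inl e
  · exact Or.inr e
  exfalso
  subst e
  haveI := Fact.mk Nat.prime_five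
  obtain ⟨f, hf⟩ := exists_prime_orderOf_dvd_card' 5 hd
  rw [← Subgroup.orderOf_coe] at hf
  have hf5 := h.commute_five (a := (f : G)) (b := t) (orderOf_dvd_iff_pow_eq_one.1 hf.dvd)
    (fun e => by rw [e, orderOf_one] at hf; norm_num at hf)
    (Subgroup.mem_centralizer_iff.1 f.2 t rfl).symm
  have := orderOf_dvd_of_pow_eq_one hf5
  rw [ht] at this
  norm_num at this

/-- A quotient of a solvable group has no component. -/
theorem not_hasComponent_of_solvable {H : Type*} [Group H] [Group.IsSolvable H] :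
    ¬ Cfsg.HasComponent H := by
  rintro ⟨K, -, hperf, hsimple⟩
  haveI := hperf
  haveI := hsimple
  have hsub : Subsingleton K := by
    by_contra hK
    rw [not_subsingleton_iff_nontrivial] at hK
    exact (Group.IsSolvable.commutator_lt_top_of_nontrivial (G := K)).ne hperf.commutator_eq_top
  haveI := hsub
  exact not_nontrivial (↥K ⧸ Subgroup.center ↥K) (IsSimpleGroup.toNontrivial)

/-- **No element of order six.** -/
theorem noSix_step [IsSimpleGroup G] (hna : ¬ IsMulCommutative G) (h : Ord6 G)
    (hrec : NoSixBelow.{u} (Nat.card G))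
    (hcover : Cfsg.IsCharacteristicTwoType G → (∃ g : G, orderOf g = 4) →
      ∀ (S : Sylow 2 G) (M : Subgroup G), M ≠ ⊤ → (S : Subgroup G) ≤ M →
        (∀ L, IsTwoLocal L → (S : Subgroup G) ≤ L → L ≤ M) → False)
    (hrank : (∃ g : G, orderOf g = 4) → Cfsg.PRankLE 2 2 G →
      (∃ t : G, orderOf t = 2 ∧ Cfsg.oddCore ↥(Subgroup.centralizer ({t} : Set G)) ≠ ⊥) → False)
    (g : G) : orderOf g ≠ 6 := by
  classical
  by_cases h4 : ∃ x : G, orderOf x = 4
  swap
  · exact no_six_of_no_four hna h (fun x hx => h4 ⟨x, hx⟩) g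
  have main : Cfsg.IsCharacteristicTwoType G → orderOf g ≠ 6 := fun h2 =>
    no_six_of_charTwo_aux hna h hrec h2 h4 (hcover h2 h4)
      (fun S _ _ hP3 hP5 huniq {D} hD1 hDS hD3 hDN =>
        par3_le_normalizer_core hna h hrec h2 S hP3 hP5 huniq hD1 hDS hD3 hDN) g
  obtain ⟨x, hx⟩ := h4
  have heven : Even (Nat.card G) :=
    even_iff_two_dvd.2 ((show 2 ∣ 4 by norm_num).trans (hx ▸ orderOf_dvd_natCard x))
  have hO2 : ∀ N : Subgroup G, N.Normal → N.index ≠ 2 := fun N hN hi => by
    rcases IsSimpleGroup.eq_bot_or_eq_top_of_normal N hN with e | e <;> subst e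
    · rw [Subgroup.index_bot] at hi
      have := Nat.le_of_dvd two_pos (hi ▸ hx ▸ orderOf_dvd_natCard x)
      omega
    · simp at hi
  have hO : Cfsg.oddCore G = ⊥ := by
    rcases IsSimpleGroup.eq_bot_or_eq_top_of_normal (Cfsg.oddCore G) inferInstance with e | e
    · exact e
    · exfalso
      haveI : Fact (Nat.Prime 2) := ⟨Nat.prime_two⟩
      have := CfsgLib.Constrained.pPrimeCore_coprime (p := 2) (G := G)
      rw [show pPrimeCore 2 G = ⊤ from e, Subgroup.card_top] at this
      exact (Nat.Prime.coprime_iff_not_dvd Nat.prime_two).1 this.symm heven.two_dvd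
  by_cases hW : ∃ t : G, orderOf t = 2 ∧ Cfsg.oddCore ↥(Subgroup.centralizer ({t} : Set G)) ≠ ⊥
  swap
  · exact main (Cfsg.Agent.S0505.result heven (fun t ht => h.involution_centralizer_solvable ht)
      fun t ht => by_contra fun e => hW ⟨t, ht, e⟩)
  rcases Cfsg.Agent.S1296.result heven hO2 hO with hr | hc | h2
  · exact (hrank ⟨x, hx⟩ hr hW).elim
  · obtain ⟨t, ht, hcomp⟩ := hc
    haveI := h.involution_centralizer_solvable ht
    exact (not_hasComponent_of_solvable hcomp).elim
  · exact main h2

end CfsgLib.SpecSix
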