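import Cfsg.Agent.SpecSix.RankTwoShape
import Cfsg.Agent.Constrained.HallHigman
import Cfsg.Agent.Chars.Apps.Burnside
import Cfsg.Agent.FourTransOdd.Basic

/-!
Rank two, elements of order at most six: the local structure around a dihedral Sylow 2-subgroup of
order eight.
-/

set_option autoImplicit false
set_option linter.style.haveILetI false

namespace CfsgLib.SpecSix

open Cfsg
open CfsgLib.SpecFive (eq_one_of_pow_coprime)

universe u

variable {G : Type u} [Group G] [Finite G]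

/-- A dihedral Sylow 2-subgroup generated by `s` of order four and the reflection `a`, in the rank two
configuration. -/
structure D8Frame (s a : G) : Prop where
  os : orderOf s = 4
  a2 : a * a = 1
  conj : a * s * a⁻¹ = s⁻¹
  syl : ∃ P : Sylow 2 G, Subgroup.closure ({s, a} : Set G) = (P : Subgroup G)
  iso : ∀ P : Sylow 2 G, Nonempty ((P : Subgroup G) ≃* DihedralGroup 4)
  inv_conj : ∀ x y : G, orderOf x = 2 → orderOf y = 2 → ∃ g : G, g * x * g⁻¹ = y
  core_ne : ∀ t : G, orderOf t = 2 → ∃ x : G, x ^ 3 = 1 ∧ Commute x t ∧ x ≠ 1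

namespace D8Frame

variable {s a : G}

omit [Finite G] in
theorem flip_closure (s a : G) :
    Subgroup.closure ({s, s * a} : Set G) = Subgroup.closure ({s, a} : Set G) := by
  refine le_antisymm ?_ ?_ <;> rw [Subgroup.closure_le] <;> rintro x (rfl | rfl)
  · exact Subgroup.subset_closure (Or.inl rfl)
  · exact mul_mem (Subgroup.subset_closure (Or.inl rfl)) (Subgroup.subset_closure (Or.inr rfl))
  · exact Subgroup.subset_closure (Or.inl rfl)
  · have h1 : s ∈ Subgroup.closure ({s, s * x} : Set G) := Subgroup.subset_closure (Or.inl rfl)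
    have h2 : s * x ∈ Subgroup.closure ({s, s * x} : Set G) := Subgroup.subset_closure (Or.inr rfl)
    simpa using mul_mem (inv_mem h1) h2

theorem flip (F : D8Frame s a) : D8Frame s (s * a) where
  os := F.os
  a2 := by
    calc s * a * (s * a) = s * (a * s * a⁻¹) * (a * a) := by group
      _ = 1 := by rw [F.conj, F.a2, mul_inv_cancel, one_mul]
  conj := by
    calc s * a * s * (s * a)⁻¹ = s * (a * s * a⁻¹) * s⁻¹ := by group
      _ = s⁻¹ := by rw [F.conj]; group
  syl := F.syl.imp fun P hP => by rw [flip_closure, hP]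
  iso := F.iso
  inv_conj := F.inv_conj
  core_ne := F.core_ne

theorem z_order (F : D8Frame s a) : orderOf (s * s) = 2 := by
  rw [← pow_two, orderOf_pow, F.os]
  norm_num

theorem z_sq (F : D8Frame s a) : s * s * (s * s) = 1 := by
  rw [← pow_two]
  exact orderOf_dvd_iff_pow_eq_one.1 F.z_order.dvd

theorem z_inv (F : D8Frame s a) : (s * s)⁻¹ = s * s := inv_eq_of_mul_eq_one_right F.z_sq

theorem a_inv (F : D8Frame s a) : a⁻¹ = a := inv_eq_of_mul_eq_one_right F.a2

theorem za (F : D8Frame s a) : Commute (s * s) a := by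
  refine (mul_inv_eq_iff_eq_mul.1 ?_ : a * (s * s) = s * s * a).symm
  calc a * (s * s) * a⁻¹ = a * s * a⁻¹ * (a * s * a⁻¹) := by group
    _ = s * s := by rw [F.conj, ← mul_inv_rev, F.z_inv]

theorem sa (F : D8Frame s a) : s * a * s⁻¹ = s * s * a := by
  calc s * a * s⁻¹ = s * (a * s * a⁻¹)⁻¹ * a := by group
    _ = s * s * a := by rw [F.conj, inv_inv]

theorem not_commute (F : D8Frame s a) : ¬ Commute a s := fun hc => by
  have h := F.conj
  rw [hc.eq, mul_inv_cancel_right] at h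
  have h2 := orderOf_dvd_of_pow_eq_one (show s ^ 2 = 1 by
    rw [pow_two]; nth_rw 2 [h]; exact mul_inv_cancel s)
  rw [F.os] at h2
  norm_num at h2

theorem a_ne_one (F : D8Frame s a) : a ≠ 1 := fun e => F.not_commute (e ▸ Commute.one_left s)

theorem a_ne_z (F : D8Frame s a) : a ≠ s * s := fun e =>
  F.not_commute (by rw [e]; exact (Commute.refl s).mul_left (Commute.refl s))

theorem a_order (F : D8Frame s a) : orderOf a = 2 :=
  orderOf_eq_prime (by rw [pow_two, F.a2]) F.a_ne_one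

theorem za_order (F : D8Frame s a) : orderOf (s * s * a) = 2 := by
  refine orderOf_eq_prime ?_ fun e => F.a_ne_z ?_
  · rw [F.za.mul_pow, pow_two, pow_two, F.z_sq, F.a2, one_mul]
  · rw [eq_inv_of_mul_eq_one_right e, F.z_inv]

theorem z_ne_one (F : D8Frame s a) : s * s ≠ 1 := fun e => by
  have := F.z_order
  rw [e, orderOf_one] at this
  omega

theorem two_group_card (F : D8Frame s a) (P : Sylow 2 G) : Nat.card (P : Subgroup G) = 8 := by
  obtain ⟨e⟩ := F.iso P
  rw [Nat.card_congr e.toEquiv, DihedralGroup.nat_card]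

/-- Reflections are moved by `s` to their product with the central involution. -/
theorem conj_reflection (F : D8Frame s a) {P : Sylow 2 G}
    (hP : Subgroup.closure ({s, a} : Set G) = (P : Subgroup G)) {p : G} (hp : p ∈ (P : Subgroup G))
    (hp2 : p * p = 1) (hp1 : p ≠ 1) (hpz : p ≠ s * s) : s * p * s⁻¹ = s * s * p := by
  have hsP : s ∈ (P : Subgroup G) := hP ▸ Subgroup.subset_closure (Or.inl rfl)
  have haP : a ∈ (P : Subgroup G) := hP ▸ Subgroup.subset_closure (Or.inr rfl)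
  have hle : Subgroup.zpowers s ≤ (P : Subgroup G) := Subgroup.zpowers_le.2 hsP
  have hidx : ((Subgroup.zpowers s).subgroupOf (P : Subgroup G)).index = 2 := by
    have := ((Subgroup.zpowers s).subgroupOf (P : Subgroup G)).card_mul_index
    rw [Nat.card_congr (Subgroup.subgroupOfEquivOfLe hle).toEquiv, Nat.card_zpowers, F.os,
      F.two_group_card P] at this
    omega
  have hnp : p ∉ Subgroup.zpowers s := fun hm => by
    obtain ⟨i, rfl⟩ := Subgroup.mem_zpowers_iff.1 hm
    have hd : (orderOf s : ℤ) ∣ i + i := orderOf_dvd_iff_zpow_eq_one.2 (by rw [zpow_add, hp2])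
    rw [F.os] at hd
    rcases (show i % 4 = 0 ∨ i % 4 = 2 by omega) with e | e <;>
      rw [← zpow_mod_orderOf, F.os, Nat.cast_ofNat, e] at hp1 hpz
    · exact hp1 (zpow_zero s)
    · exact hpz (by rw [show (2 : ℤ) = 1 + 1 from rfl, zpow_add, zpow_one])
  have hna : a ∉ Subgroup.zpowers s := fun hm => by
    obtain ⟨i, rfl⟩ := Subgroup.mem_zpowers_iff.1 hm
    exact F.not_commute (Commute.zpow_self s i)
  have hm := (Subgroup.mul_mem_iff_of_index_two hidx (a := ⟨p, hp⟩) (b := ⟨a, haP⟩)).2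
    (by simp [Subgroup.mem_subgroupOf, hnp, hna])
  obtain ⟨i, hi⟩ := Subgroup.mem_zpowers_iff.1 (Subgroup.mem_subgroupOf.1 hm)
  have ep : p = s ^ i * a := by
    rw [show s ^ i = p * a from hi, mul_assoc, F.a2, mul_one]
  calc s * p * s⁻¹ = s ^ i * (s * a * s⁻¹) := by
        rw [ep, ← mul_assoc s (s ^ i), (Commute.zpow_self s i).eq.symm]; group
    _ = s * s * p := by
        rw [F.sa, ep, ← mul_assoc (s ^ i) (s * s),
          ((Commute.zpow_self s i).mul_right (Commute.zpow_self s i)).eq, mul_assoc (s * s)]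

/-- The core of the centralizer of the central involution, as the set of its elements of exponent 3. -/
theorem exists_core (F : D8Frame s a) (h : Ord6 G) :
    ∃ W : Subgroup G, (∀ x, x ∈ W ↔ x ^ 3 = 1 ∧ Commute x (s * s)) ∧ W ≠ ⊥ ∧
      Nat.card ↥(Subgroup.centralizer ({s * s} : Set G)) = 8 * Nat.card W ∧
      (W.subgroupOf (Subgroup.centralizer ({s * s} : Set G))).Normal := by
  haveI : Fact (Nat.Prime 2) := ⟨Nat.prime_two⟩
  obtain ⟨P, hP⟩ := F.syl
  set C := Subgroup.centralizer ({s * s} : Set G) with hC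
  obtain ⟨N, hN, hNodd, k, hk⟩ : ∃ N : Subgroup C, N.Normal ∧ Odd (Nat.card N) ∧ ∃ k : ℕ, N.index = 2 ^ k :=
    Cfsg.Agent.S0514.result P 4 (by norm_num) (F.iso P) (s * s) F.z_order
  have hWmem : ∀ x, x ∈ N.map C.subtype ↔ x ^ 3 = 1 ∧ Commute x (s * s) := fun x => by
    constructor
    · rintro ⟨u, hu, rfl⟩
      have hodd : Odd (orderOf (u : G)) := by
        rw [Subgroup.orderOf_coe]
        exact hNodd.of_dvd_nat (N.orderOf_dvd_natCard hu)
      have hc : Commute (u : G) (s * s) := Subgroup.mem_centralizer_singleton_iff.1 u.2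
      exact ⟨pow_three_of_odd_of_commute h F.z_order hodd hc, hc⟩
    · rintro ⟨h3, hc⟩
      have hxC : x ∈ C := Subgroup.mem_centralizer_singleton_iff.2 hc.eq
      refine ⟨⟨x, hxC⟩, (QuotientGroup.eq_one_iff (⟨x, hxC⟩ : C)).1 ?_, rfl⟩
      haveI := hN
      refine eq_one_of_pow_coprime (m := 3) (n := 2 ^ k)
        ((show Nat.Coprime 3 2 by norm_num).pow_right k) ?_ ?_
      · rw [← QuotientGroup.mk_pow, show (⟨x, hxC⟩ : C) ^ 3 = 1 from Subtype.ext (by simpa using h3)]
        rfl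
      · rw [← hk, Subgroup.index, pow_card_eq_one']
  refine ⟨N.map C.subtype, hWmem, ?_, ?_, ?_⟩
  · obtain ⟨x, x3, xc, x1⟩ := F.core_ne _ F.z_order
    intro e
    have hm : x ∈ N.map C.subtype := (hWmem x).2 ⟨x3, xc⟩
    rw [e, Subgroup.mem_bot] at hm
    exact x1 hm
  · have hc := N.card_mul_index
    rw [hk] at hc
    have hPC : (P : Subgroup G) ≤ C := by
      rw [← hP, Subgroup.closure_le]
      rintro x (rfl | rfl)
      · exact Subgroup.mem_centralizer_singleton_iff.2 (mul_assoc x x x).symm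
      · exact Subgroup.mem_centralizer_singleton_iff.2 F.za.eq.symm
    have h8 : 2 ^ 3 ∣ Nat.card N * 2 ^ k := by
      rw [hc, show (2 : ℕ) ^ 3 = 8 from rfl, ← F.two_group_card P]
      exact Subgroup.card_dvd_of_le hPC
    have hk3 : 3 ≤ k := (Nat.pow_dvd_pow_iff_le_right (by norm_num)).1
      (((Nat.coprime_two_left.2 hNodd).pow_left 3).dvd_of_dvd_mul_left h8)
    have hk3' : k ≤ 3 := by
      have hd : 2 ^ k ∣ Nat.card G := (Dvd.intro_left _ hc).trans C.card_subgroup_dvd_card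
      have he : (Nat.card G).factorization 2 = 3 := by
        have := P.card_eq_multiplicity
        rw [F.two_group_card P, show 8 = 2 ^ 3 from rfl] at this
        exact (Nat.pow_right_injective le_rfl this).symm
      exact he ▸ (Nat.Prime.pow_dvd_iff_le_factorization Nat.prime_two Nat.card_pos.ne').1 hd
    obtain rfl : k = 3 := by omega
    rw [Subgroup.card_map_of_injective C.subtype_injective, ← hc, mul_comm]
    rfl
  · rw [Subgroup.subgroupOf, Subgroup.comap_map_eq_self_of_injective C.subtype_injective]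
    exact hN

theorem conj_mem_core (F : D8Frame s a) {v x : G} (hv : Commute v (s * s))
    (hx : x ^ 3 = 1 ∧ Commute x (s * s)) : (v * x * v⁻¹) ^ 3 = 1 ∧ Commute (v * x * v⁻¹) (s * s) := by
  refine ⟨by rw [conj_pow, hx.1, mul_one, mul_inv_cancel], ?_⟩
  exact (hv.mul_left hx.2).mul_left hv.inv_left

/-- `s` inverts the core. -/
theorem s_inverts (F : D8Frame s a) (h : Ord6 G) {x : G} (h3 : x ^ 3 = 1) (hc : Commute x (s * s)) :
    s * x * s⁻¹ = x⁻¹ := by
  obtain ⟨W, hW, -, -, -⟩ := F.exists_core h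
  refine inverts_of_fpf (H := W) ?_ ?_ ?_ x ((hW x).2 ⟨h3, hc⟩)
  · exact fun y hy => (hW _).2 (F.conj_mem_core ((Commute.refl s).mul_right (Commute.refl s)) ((hW y).1 hy))
  · intro y hy hsy
    exact eq_one_of_pow_coprime (show Nat.Coprime 4 3 by norm_num)
      (h.commute_four (orderOf_dvd_iff_pow_eq_one.1 F.os.dvd) F.z_ne_one hsy) ((hW y).1 hy).1
  · exact fun y hy => ((hW y).1 hy).2.symm

theorem core_comm (F : D8Frame s a) (h : Ord6 G) {x y : G} (h3 : x ^ 3 = 1)
    (hc : Commute x (s * s)) (h3' : y ^ 3 = 1) (hc' : Commute y (s * s)) : Commute x y := by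
  obtain ⟨W, hW, -, -, -⟩ := F.exists_core h
  have hxy := (hW _).1 (mul_mem ((hW x).2 ⟨h3, hc⟩) ((hW y).2 ⟨h3', hc'⟩))
  have e : s * (x * y) * s⁻¹ = s * x * s⁻¹ * (s * y * s⁻¹) := by group
  rw [F.s_inverts h hxy.1 hxy.2, F.s_inverts h h3 hc, F.s_inverts h h3' hc'] at e
  have e' := congrArg (·⁻¹) e
  simp only [mul_inv_rev, inv_inv] at e'
  exact e' 

/-- An element of the core centralised by `s * a` is inverted by `a`. -/
theorem a_inverts (F : D8Frame s a) (h : Ord6 G) {x : G} (h3 : x ^ 3 = 1) (hc : Commute x (s * s))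
    (hb : Commute x (s * a)) : a * x * a⁻¹ = x⁻¹ := by
  have h' := F.conj_mem_core F.za.symm ⟨h3, hc⟩
  have e : s * (a * x * a⁻¹) * s⁻¹ = x := by
    calc s * (a * x * a⁻¹) * s⁻¹ = s * a * x * (s * a)⁻¹ := by group
      _ = x := by rw [hb.symm.eq, mul_inv_cancel_right]
  rw [F.s_inverts h h'.1 h'.2] at e
  rw [← inv_inv (a * x * a⁻¹), e]

/-- The element permuting the involutions of the four-group `⟨z, a⟩` cyclically. -/
theorem exists_cycle (F : D8Frame s a) (h : Ord6 G) :
    ∃ f : G, f ^ 3 = 1 ∧ f * (s * s) * f⁻¹ = s * s * a ∧ f * (s * s * a) * f⁻¹ = a ∧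
      f * a * f⁻¹ = s * s := by
  haveI : Fact (Nat.Prime 2) := ⟨Nat.prime_two⟩
  obtain ⟨g, hg⟩ := F.inv_conj _ _ F.z_order F.a_order
  obtain ⟨z', hz'⟩ : ∃ z', z' = g⁻¹ * (s * s) * g := ⟨_, rfl⟩
  have hgz' : g * z' * g⁻¹ = s * s := by rw [hz']; group
  obtain ⟨P, hP⟩ := F.syl
  have hz'C : Commute z' (s * s) := by
    have e1 : s * s = g⁻¹ * a * g := by rw [← hg]; group
    have hc := Commute.map F.za (MulAut.conj g⁻¹).toMonoidHom
    simp only [MulEquiv.coe_toMonoidHom, MulAut.conj_apply, inv_inv] at hc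
    rwa [← hz', ← e1] at hc
  have hz'2 : z' * z' = 1 := by
    calc z' * z' = g⁻¹ * (s * s * (s * s)) * g := by rw [hz']; group
      _ = 1 := by rw [F.z_sq]; group
  have hz'1 : z' ≠ 1 := fun e => F.z_ne_one (by rw [← hgz', e]; group)
  have hz'z : z' ≠ s * s := fun e => F.a_ne_z (by rw [← hg, ← e, hgz', e])
  set C := Subgroup.centralizer ({s * s} : Set G) with hC
  have hsC : s ∈ C := Subgroup.mem_centralizer_singleton_iff.2 (mul_assoc s s s).symm
  have hPC : (P : Subgroup G) ≤ C := by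
    rw [← hP, Subgroup.closure_le]
    rintro x (rfl | rfl)
    · exact hsC
    · exact Subgroup.mem_centralizer_singleton_iff.2 F.za.eq.symm
  obtain ⟨R, hR⟩ := (IsPGroup.of_card (p := 2) (n := 1) (show Nat.card (Subgroup.zpowers
    (⟨z', Subgroup.mem_centralizer_singleton_iff.2 hz'C.eq⟩ : C)) = 2 ^ 1 by
      rw [Nat.card_zpowers, Subgroup.orderOf_mk, pow_one]
      exact orderOf_eq_prime (by rw [pow_two, hz'2]) hz'1)).exists_le_sylow
  obtain ⟨k, hk⟩ := MulAction.exists_smul_eq C (P.subtype hPC) R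
  have hmem := hR (Subgroup.mem_zpowers _)
  rw [← hk, Sylow.coe_subgroup_smul, Subgroup.mem_pointwise_smul_iff_inv_smul_mem,
    Sylow.coe_subtype, Subgroup.mem_subgroupOf] at hmem
  simp only [← map_inv, MulAut.smul_def, MulAut.conj_apply, inv_inv, Subgroup.coe_mul,
    Subgroup.coe_inv] at hmem
  obtain ⟨p, hp⟩ : ∃ p, p = (k : G)⁻¹ * z' * (k : G) := ⟨_, rfl⟩
  rw [← hp] at hmem
  have hkz : Commute (k : G) (s * s) := Subgroup.mem_centralizer_singleton_iff.1 k.2
  have hz'p : z' = (k : G) * p * (k : G)⁻¹ := by rw [hp]; group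
  have hp2 : p * p = 1 := by
    calc p * p = (k : G)⁻¹ * (z' * z') * (k : G) := by rw [hp]; group
      _ = 1 := by rw [hz'2]; group
  have hp1 : p ≠ 1 := fun e => hz'1 (by rw [hz'p, e]; group)
  have hpz : p ≠ s * s := fun e => hz'z (by rw [hz'p, e, hkz.eq, mul_inv_cancel_right])
  have hrefl := F.conj_reflection hP hmem hp2 hp1 hpz
  obtain ⟨σ, hσ⟩ : ∃ σ, σ = (k : G) * s * (k : G)⁻¹ := ⟨_, rfl⟩
  have hσz : σ * (s * s) * σ⁻¹ = s * s := by
    have : Commute σ (s * s) := hσ ▸ (hkz.mul_left (Commute.mul_right rfl rfl)).mul_left hkz.inv_left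
    rw [this.eq, mul_inv_cancel_right]
  have hσz' : σ * z' * σ⁻¹ = s * s * z' := by
    calc σ * z' * σ⁻¹ = (k : G) * (s * p * s⁻¹) * (k : G)⁻¹ := by rw [hσ, hz'p]; group
      _ = (k : G) * (s * s) * (k : G)⁻¹ * ((k : G) * p * (k : G)⁻¹) := by rw [hrefl]; group
      _ = s * s * z' := by rw [hkz.eq, mul_inv_cancel_right, ← hz'p]
  obtain ⟨q, hq⟩ : ∃ q, q = g * σ * g⁻¹ := ⟨_, rfl⟩
  have hqz : q * (s * s) * q⁻¹ = s * s * a := by
    calc q * (s * s) * q⁻¹ = g * σ * (g⁻¹ * (s * s) * g) * σ⁻¹ * g⁻¹ := by rw [hq]; group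
      _ = g * (σ * z' * σ⁻¹) * g⁻¹ := by rw [← hz']; group
      _ = g * (s * s) * g⁻¹ * (g * z' * g⁻¹) := by rw [hσz']; group
      _ = s * s * a := by rw [hg, hgz', F.za.eq]
  have hqa : q * a * q⁻¹ = a := by
    calc q * a * q⁻¹ = g * (σ * (s * s) * σ⁻¹) * g⁻¹ := by rw [hq, ← hg]; group
      _ = a := by rw [hσz, hg]
  obtain ⟨f, hf⟩ : ∃ f, f = q * s := ⟨_, rfl⟩
  have f1 : f * (s * s) * f⁻¹ = s * s * a := by
    calc f * (s * s) * f⁻¹ = q * (s * s) * q⁻¹ := by rw [hf]; group
      _ = s * s * a := hqz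
  have f3 : f * a * f⁻¹ = s * s := by
    calc f * a * f⁻¹ = q * (s * a * s⁻¹) * q⁻¹ := by rw [hf]; group
      _ = q * (s * s) * q⁻¹ * (q * a * q⁻¹) := by rw [F.sa]; group
      _ = s * s := by rw [hqz, hqa, mul_assoc, F.a2, mul_one]
  have f2 : f * (s * s * a) * f⁻¹ = a := by
    calc f * (s * s * a) * f⁻¹ = f * (s * s) * f⁻¹ * (f * a * f⁻¹) := by group
      _ = a := by rw [f1, f3, mul_assoc, ← F.za.eq, ← mul_assoc, F.z_sq, one_mul]
  have e4 : f ^ 4 * (s * s) * (f ^ 4)⁻¹ = s * s * a := by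
    calc f ^ 4 * (s * s) * (f ^ 4)⁻¹
        = f * (f * (f * (f * (s * s) * f⁻¹) * f⁻¹) * f⁻¹) * f⁻¹ := by simp only [pow_succ, pow_zero, one_mul, mul_inv_rev, mul_assoc]
      _ = s * s * a := by rw [f1, f2, f3, f1]
  have e4' : f ^ 4 * (s * s * a) * (f ^ 4)⁻¹ = a := by
    calc f ^ 4 * (s * s * a) * (f ^ 4)⁻¹
        = f * (f * (f * (f * (s * s * a) * f⁻¹) * f⁻¹) * f⁻¹) * f⁻¹ := by simp only [pow_succ, pow_zero, one_mul, mul_inv_rev, mul_assoc]
      _ = a := by rw [f2, f3, f1, f2]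
  have e4'' : f ^ 4 * a * (f ^ 4)⁻¹ = s * s := by
    calc f ^ 4 * a * (f ^ 4)⁻¹
        = f * (f * (f * (f * a * f⁻¹) * f⁻¹) * f⁻¹) * f⁻¹ := by simp only [pow_succ, pow_zero, one_mul, mul_inv_rev, mul_assoc]
      _ = s * s := by rw [f3, f1, f2, f3]
  refine ⟨f ^ 4, ?_, e4, e4', e4''⟩
  rcases h f with e | e | e
  · exfalso
    rw [e] at e4
    simp [F.a_ne_one] at e4
  · exfalso
    have : f ^ 5 * (s * s) * (f ^ 5)⁻¹ = a := by
      calc f ^ 5 * (s * s) * (f ^ 5)⁻¹ = f * (f ^ 4 * (s * s) * (f ^ 4)⁻¹) * f⁻¹ := by group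
        _ = a := by rw [e4, f2]
    rw [e] at this
    simp at this
    exact F.a_ne_z this.symm
  · calc (f ^ 4) ^ 3 = (f ^ 6) ^ 2 := by rw [← pow_mul, ← pow_mul]
      _ = 1 := by rw [e, one_pow]

end D8Frame

theorem exists_two_three {K : Type u} [Group K] [Finite K] (h6 : ∀ g : K, g ^ 6 = 1) :
    ∃ i j : ℕ, Nat.card K = 2 ^ i * 3 ^ j := by
  obtain ⟨i, m, hm2, hm⟩ := Nat.exists_eq_pow_mul_and_not_dvd (Nat.card_pos (α := K)).ne' 2 (by norm_num)
  refine ⟨i, m.primeFactorsList.length, ?_⟩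
  rw [hm, ← Nat.eq_prime_pow_of_unique_prime_dvd (p := 3) (n := m) (fun e => hm2 (e ▸ dvd_zero 2))]
  intro d hd hdm
  haveI : Fact d.Prime := ⟨hd⟩
  obtain ⟨g, hg⟩ := exists_prime_orderOf_dvd_card' (G := K) d (hm ▸ hdm.mul_left _)
  have h6' := hg ▸ orderOf_dvd_of_pow_eq_one (h6 g)
  rcases hd.dvd_mul.1 (show d ∣ 2 * 3 from h6') with e | e
  · exact absurd ((Nat.prime_dvd_prime_iff_eq hd Nat.prime_two).1 e ▸ hdm) hm2
  · exact (Nat.prime_dvd_prime_iff_eq hd Nat.prime_three).1 e

namespace D8Frame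

variable {s a : G}

/-- The centralizer of an element of order three centralised by the four-group. -/
theorem centralizer_facts (F : D8Frame s a) (h : Ord6 G) (hr : PRankLE 2 2 G) {y : G}
    (y3 : y ^ 3 = 1) (y1 : y ≠ 1) (yz : Commute y (s * s)) (ya : Commute y a) :
    ∃ R : Subgroup G, (∀ x ∈ R, x ^ 3 = 1 ∧ Commute x y) ∧
      (∀ g, Commute g y → ∀ x ∈ R, g * x * g⁻¹ ∈ R) ∧
      (∀ x, x ^ 3 = 1 → Commute x y → Commute x (s * s) → x ∈ R) ∧
      Nat.card ↥(Subgroup.centralizer ({y} : Set G)) ≤ 12 * Nat.card R := by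
  classical
  haveI : Fact (Nat.Prime 2) := ⟨Nat.prime_two⟩
  haveI : Fact (Nat.Prime 3) := ⟨Nat.prime_three⟩
  set K := Subgroup.centralizer ({y} : Set G) with hK
  have memK : ∀ {g : G}, g ∈ K ↔ Commute g y := fun {g} => Subgroup.mem_centralizer_singleton_iff
  have h6 : ∀ g : K, g ^ 6 = 1 := fun g =>
    Subtype.ext (by simpa using h.commute_three y3 y1 (memK.1 g.2).symm)
  obtain ⟨i, j, hij⟩ := exists_two_three h6
  haveI : Group.IsSolvable K := Chars.Apps.isSolvable_of_card_eq_pow_mul_pow K Nat.prime_two Nat.prime_three hij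
  set R₀ : Subgroup K := pCore 3 K with hR₀
  set Q := K ⧸ R₀
  set π : K →* Q := QuotientGroup.mk' R₀
  have hR3 : ∀ x ∈ R₀, x ^ 3 = 1 := by
    intro x hx
    obtain ⟨k, hk⟩ := Constrained.isPGroup_pCore (p := 3) ⟨x, hx⟩
    have hk' : x ^ 3 ^ k = 1 := congrArg Subtype.val hk
    exact eq_one_of_pow_coprime (g := x ^ 3) (m := 2) (n := 3 ^ k)
      ((show Nat.Coprime 2 3 by norm_num).pow_right k) (by rw [← pow_mul]; exact h6 x)
      (by rw [← pow_mul, mul_comm, pow_mul, hk', one_pow])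
  -- the three involutions survive
  obtain ⟨Z, hZ⟩ : ∃ Z : K, (Z : G) = s * s := ⟨⟨_, memK.2 yz.symm⟩, rfl⟩
  obtain ⟨A, hA⟩ : ∃ A : K, (A : G) = a := ⟨⟨_, memK.2 ya.symm⟩, rfl⟩
  have ne_R : ∀ g : K, orderOf (g : G) = 2 → π g ≠ 1 := fun g hg e => by
    have hd := orderOf_dvd_of_pow_eq_one (hR3 g ((QuotientGroup.eq_one_iff g).1 e))
    rw [← Subgroup.orderOf_coe, hg] at hd
    norm_num at hd
  have z1 : π Z ≠ 1 := ne_R Z (by rw [hZ]; exact F.z_order)
  have a1 : π A ≠ 1 := ne_R A (by rw [hA]; exact F.a_order)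
  have za1 : π (Z * A) ≠ 1 := ne_R _ (by rw [Subgroup.coe_mul, hZ, hA]; exact F.za_order)
  have hzz : π Z * π Z = 1 := by
    rw [← map_mul, ← map_one π]; exact congrArg π (Subtype.ext (by rw [Subgroup.coe_mul, hZ]; exact F.z_sq))
  have haa : π A * π A = 1 := by
    rw [← map_mul, ← map_one π]; exact congrArg π (Subtype.ext (by rw [Subgroup.coe_mul, hA]; exact F.a2))
  have hza : Commute (π Z) (π A) := Commute.map (Subtype.ext (by
    rw [Subgroup.coe_mul, Subgroup.coe_mul, hZ, hA]; exact F.za.eq) : Commute Z A) π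
  -- 2-subgroups of the quotient have order at most four
  have hi : i ≤ 2 := by
    obtain ⟨T, hT⟩ := Sylow.exists_subgroup_card_pow_prime 2 (hij ▸ Dvd.intro _ rfl : 2 ^ i ∣ Nat.card K)
    have hsq : ∀ x ∈ T, x * x = 1 := fun x hx => by
      have h1 : x ^ (2 ^ i) = 1 := orderOf_dvd_iff_pow_eq_one.1 (hT ▸ T.orderOf_dvd_natCard hx)
      exact eq_one_of_pow_coprime (g := x * x) (m := 3) (n := 2 ^ i)
        ((show Nat.Coprime 3 2 by norm_num).pow_right i)
        (by rw [← pow_two, ← pow_mul]; exact h6 x)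
        (by rw [← pow_two, ← pow_mul, mul_comm, pow_mul, h1, one_pow])
    have hTc : IsMulCommutative (T.map K.subtype) := ⟨⟨fun p q => Subtype.ext (by
      obtain ⟨_, p', hp, rfl⟩ := p
      obtain ⟨_, q', hq, rfl⟩ := q
      have e1 := inv_eq_of_mul_eq_one_right (hsq p' hp)
      have e2 := inv_eq_of_mul_eq_one_right (hsq q' hq)
      have e3 := inv_eq_of_mul_eq_one_right (hsq _ (mul_mem hp hq))
      rw [mul_inv_rev, e1, e2] at e3
      show (p' : G) * (q' : G) = (q' : G) * (p' : G)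
      exact congrArg Subtype.val e3.symm)⟩⟩
    have := hr (T.map K.subtype) hTc (by
      rintro _ ⟨x, hx, rfl⟩
      rw [pow_two, ← map_mul, hsq x hx, map_one])
    rw [Subgroup.card_map_of_injective K.subtype_injective, hT] at this
    exact (Nat.pow_le_pow_iff_right (by norm_num)).1 this
  have hQdvd : Nat.card Q ∣ 2 ^ i * 3 ^ j := hij ▸ Subgroup.card_quotient_dvd_card R₀
  have two_le : ∀ L : Subgroup Q, IsPGroup 2 L → Nat.card L ≤ 4 := fun L hL => by
    obtain ⟨l, hl⟩ := hL.exists_card_eq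
    have hd : Nat.card L ∣ 2 ^ i * 3 ^ j := L.card_subgroup_dvd_card.trans hQdvd
    rw [hl] at hd ⊢
    have := ((Nat.Coprime.pow l j (show Nat.Coprime 2 3 by norm_num))).dvd_of_dvd_mul_right hd
    have := (Nat.pow_dvd_pow_iff_le_right (by norm_num)).1 this
    exact le_trans (Nat.pow_le_pow_right (by norm_num) (this.trans hi)) le_rfl
  -- the 2-core of the quotient is self-centralising
  have hQ3 : pPrimeCore 2 Q = ⊥ := by
    have hd : Nat.card ↥(pPrimeCore 2 Q) ∣ 2 ^ i * 3 ^ j := (Subgroup.card_subgroup_dvd_card _).trans hQdvd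
    obtain ⟨l, -, hl⟩ := (Nat.dvd_prime_pow Nat.prime_three).1
      ((Constrained.pPrimeCore_coprime (p := 2) (G := Q)).pow_right i |>.dvd_of_dvd_mul_left hd)
    rw [eq_bot_iff, ← Constrained.pCore_quotient_pCore (p := 3) (G := K)]
    exact Constrained.le_pCore inferInstance (IsPGroup.of_card hl)
  set U := pCore 2 Q with hU
  have hCU : Subgroup.centralizer (U : Set Q) ≤ U :=
    Constrained.centralizer_pCore_le Constrained.isPSolvable_of_isSolvable hQ3
  -- `U` is the four-group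
  set E : Subgroup Q := Subgroup.closure {π Z, π A} with hE
  have hEc : IsMulCommutative E := Subgroup.isMulCommutative_closure (by
    rintro x (rfl | rfl) y (rfl | rfl) <;> first | rfl | exact hza.eq | exact hza.eq.symm)
  have hE2 : ∀ x ∈ E, x * x = 1 := fun x hx => by
    induction hx using Subgroup.closure_induction with
    | mem x hx => rcases hx with rfl | rfl; exacts [hzz, haa]
    | one => exact one_mul 1
    | mul x y hx hy ex ey =>
      have e := congrArg Subtype.val (hEc.is_comm.comm (⟨y, hy⟩ : E) ⟨x, hx⟩)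
      calc x * y * (x * y) = x * (y * x) * y := by group
        _ = x * (x * y) * y := by rw [show y * x = x * y from e]
        _ = 1 := by rw [← mul_assoc, ex, one_mul, ey]
    | inv x hx ex => rw [← mul_inv_rev, ex, inv_one]
  have hEp : IsPGroup 2 E := fun x => ⟨1, by rw [pow_one, pow_two]; exact Subtype.ext (hE2 x x.2)⟩
  have hsup : IsPGroup 2 ↥(U ⊔ E) := IsPGroup.to_sup_of_normal_left Constrained.isPGroup_pCore hEp
  have hEle : ∀ x : Q, x ∈ ({1, π Z, π A, π Z * π A} : Set Q) → x ∈ E := by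
    rintro x (rfl | rfl | rfl | rfl)
    · exact one_mem _
    · exact Subgroup.subset_closure (Or.inl rfl)
    · exact Subgroup.subset_closure (Or.inr rfl)
    · exact mul_mem (Subgroup.subset_closure (Or.inl rfl)) (Subgroup.subset_closure (Or.inr rfl))
  have hzane : π Z ≠ π A := fun e => za1 (by rw [map_mul, ← e, hzz])
  have hEset : ∀ x ∈ U ⊔ E, x = 1 ∨ x = π Z ∨ x = π A ∨ x = π Z * π A := by
    haveI := Fintype.ofFinite Q
    let S4 : Finset Q := {1, π Z, π A, π Z * π A}
    have hc : S4.card = 4 := by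
      simp only [S4]
      rw [Finset.card_insert_of_notMem, Finset.card_insert_of_notMem, Finset.card_insert_of_notMem,
        Finset.card_singleton]
      · simp only [Finset.mem_singleton]; intro e; exact z1 (mul_eq_right.1 e.symm)
      · simp only [Finset.mem_insert, Finset.mem_singleton, not_or]
        exact ⟨hzane, fun e => a1 (mul_eq_left.1 e.symm)⟩
      · simp only [Finset.mem_insert, Finset.mem_singleton, not_or]
        exact ⟨z1.symm, a1.symm, fun e => za1 (by rw [map_mul, e])⟩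
    have hle := two_le _ hsup
    intro x hx
    by_contra hne
    simp only [not_or] at hne
    have hsub : (↑(insert x S4) : Set Q) ⊆ ((U ⊔ E : Subgroup Q) : Set Q) := by
      intro q hq
      rw [Finset.mem_coe, Finset.mem_insert] at hq
      rcases hq with e | e
      · rw [e]; exact hx
      · exact le_sup_right (a := U) (hEle q (by simpa [S4] using e))
    have hn := Set.ncard_le_ncard hsub
    rw [Set.ncard_coe_finset, ← Nat.card_coe_set_eq,
      Finset.card_insert_of_notMem (by simp [S4, hne]), hc] at hn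
    change 4 + 1 ≤ Nat.card ↥(U ⊔ E) at hn
    omega
  have hUcases : ∀ x ∈ U, x = 1 ∨ x = π Z ∨ x = π A ∨ x = π Z * π A := fun x hx => hEset x (le_sup_left (b := E) hx)
  have hUsq : ∀ x ∈ U, ∀ q ∈ U, Commute x q := by
    intro x hx q hq
    rcases hUcases x hx with rfl | rfl | rfl | rfl <;>
      rcases hUcases q hq with rfl | rfl | rfl | rfl <;>
      first
      | exact Commute.one_left _
      | exact Commute.one_right _
      | exact Commute.refl _
      | exact hza
      | exact hza.symm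
      | exact (Commute.refl _).mul_right hza
      | exact hza.symm.mul_right (Commute.refl _)
      | exact ((Commute.refl _).mul_right hza).symm
      | exact (hza.symm.mul_right (Commute.refl _)).symm
  -- everything of `E` centralises `U`, so lies in it
  have hEU : ∀ x ∈ E, x ∈ U := fun x hx => hCU (Subgroup.mem_centralizer_iff.2 fun q hq => by
    have : q ∈ E := hEle q (hUcases q hq)
    exact congrArg Subtype.val (hEc.is_comm.comm (⟨q, this⟩ : E) ⟨x, hx⟩))
  have zU : π Z ∈ U := hEU _ (Subgroup.subset_closure (Or.inl rfl))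
  have aU : π A ∈ U := hEU _ (Subgroup.subset_closure (Or.inr rfl))
  have hUn : U.Normal := inferInstance
  have hfix : ∀ x : Q, x ^ 3 = 1 → Commute x (π Z) → x = 1 := by
    intro x hx hxz
    have hxa : Commute x (π A) := by
      have hm := hUn.conj_mem _ aU x
      rcases hUcases _ hm with e | e | e | e
      · exact absurd (conj_eq_one_iff.1 e) a1
      · exfalso
        refine hzane ((conj_injective (x := x)) ?_)
        show x * π Z * x⁻¹ = x * π A * x⁻¹
        rw [e, hxz.eq, mul_inv_cancel_right]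
      · exact mul_inv_eq_iff_eq_mul.1 e
      · have e2 : (x * x) * π A * (x * x)⁻¹ = π A := by
          calc (x * x) * π A * (x * x)⁻¹ = x * (x * π A * x⁻¹) * x⁻¹ := by group
            _ = x * (π Z * π A) * x⁻¹ := by rw [e]
            _ = x * π Z * x⁻¹ * (x * π A * x⁻¹) := by group
            _ = π A := by rw [hxz.eq, mul_inv_cancel_right, e, ← mul_assoc, hzz, one_mul]
        have ec : Commute (x * x) (π A) := mul_inv_eq_iff_eq_mul.1 e2
        have hx' : x = (x * x) * (x * x) := by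
          rw [show x * x * (x * x) = x ^ 3 * x by simp [pow_succ, mul_assoc], hx, one_mul]
        rw [hx']
        exact ec.mul_left ec
    have hxU : x ∈ U := hCU (Subgroup.mem_centralizer_iff.2 fun q hq => by
      rcases hUcases q hq with rfl | rfl | rfl | rfl
      · rw [one_mul, mul_one]
      · exact hxz.eq.symm
      · exact hxa.eq.symm
      · exact (hxz.mul_right hxa).eq.symm)
    rcases hUcases x hxU with rfl | rfl | rfl | rfl
    · rfl
    all_goals exact eq_one_of_pow_coprime (show Nat.Coprime 3 2 by norm_num) hx (by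
      first
      | rw [pow_two]; exact hzz
      | rw [pow_two]; exact haa
      | rw [hza.mul_pow, pow_two, pow_two, hzz, haa, one_mul])
  -- the order of the quotient
  have hQ12 : Nat.card Q ≤ 12 := by
    set C := Subgroup.centralizer ({π Z} : Set Q) with hC
    have hCp : IsPGroup 2 C := by
      intro c
      obtain ⟨g, hg⟩ := QuotientGroup.mk'_surjective R₀ (c : Q)
      have hc6 : (c : Q) ^ 6 = 1 := by rw [← hg, ← map_pow, h6, map_one]
      refine ⟨1, Subtype.ext ?_⟩
      rw [pow_one, SubmonoidClass.coe_pow, OneMemClass.coe_one]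
      refine hfix _ (by rw [← pow_mul]; exact hc6) ?_
      have hcz : Commute (c : Q) (π Z) := Subgroup.mem_centralizer_singleton_iff.1 c.2
      exact hcz.pow_left 2
    have h1 : C.index ≤ 3 := by
      rw [Subgroup.index]
      have hsub : ∀ q : Q, q * π Z * q⁻¹ = π Z ∨ q * π Z * q⁻¹ = π A ∨ q * π Z * q⁻¹ = π Z * π A :=
        fun q => (hUcases _ (hUn.conj_mem _ zU q)).resolve_left fun e => z1 (conj_eq_one_iff.1 e)
      let φ : Q ⧸ C → Fin 3 := fun q =>
        if q.out * π Z * q.out⁻¹ = π Z then 0 else if q.out * π Z * q.out⁻¹ = π A then 1 else 2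
      refine (Nat.card_le_card_of_injective φ ?_).trans (by simp)
      intro p q hpq
      have e : p.out * π Z * p.out⁻¹ = q.out * π Z * q.out⁻¹ := by
        simp only [φ] at hpq
        rcases hsub p.out with e1 | e1 | e1 <;> rcases hsub q.out with e2 | e2 | e2 <;>
          rw [e1, e2] at hpq ⊢ <;>
          simp [hzane, hzane.symm, z1, a1] at hpq ⊢
      rw [← QuotientGroup.out_eq' p, ← QuotientGroup.out_eq' q, QuotientGroup.eq]
      refine Subgroup.mem_centralizer_singleton_iff.2 ?_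
      calc p.out⁻¹ * q.out * π Z = p.out⁻¹ * (q.out * π Z * q.out⁻¹) * q.out := by group
        _ = π Z * (p.out⁻¹ * q.out) := by rw [← e]; group
    rw [← C.card_mul_index]
    calc Nat.card C * C.index ≤ 4 * 3 := Nat.mul_le_mul (two_le C hCp) h1
      _ = 12 := rfl
  refine ⟨R₀.map K.subtype, ?_, ?_, ?_, ?_⟩
  · rintro _ ⟨x, hx, rfl⟩
    exact ⟨by simpa using congrArg Subtype.val (hR3 x hx), memK.1 x.2⟩
  · rintro g hg _ ⟨x, hx, rfl⟩
    exact ⟨⟨g, memK.2 hg⟩ * x * ⟨g, memK.2 hg⟩⁻¹,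
      (inferInstance : (pCore 3 K).Normal).conj_mem x hx _, rfl⟩
  · intro x x3 xy xz
    refine ⟨⟨x, memK.2 xy⟩, (QuotientGroup.eq_one_iff _).1 (hfix (π ⟨x, memK.2 xy⟩) ?_ ?_), rfl⟩
    · rw [← map_pow, show (⟨x, memK.2 xy⟩ : K) ^ 3 = 1 from Subtype.ext (by simpa using x3), map_one]
    · exact Commute.map (Subtype.ext (by rw [Subgroup.coe_mul, Subgroup.coe_mul, hZ]; exact xz.eq) :
        Commute (⟨x, memK.2 xy⟩ : K) Z) π
  · rw [Subgroup.card_map_of_injective K.subtype_injective,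
      show Nat.card K = Nat.card Q * Nat.card R₀ from R₀.card_eq_card_quotient_mul_card_subgroup]
    exact Nat.mul_le_mul_right _ hQ12

/-- Not both weights occur. -/
theorem weight_cases (F : D8Frame s a) (h : Ord6 G) (hr : PRankLE 2 2 G) :
    (∀ x, x ^ 3 = 1 → Commute x (s * s) → Commute x (s * a) → x = 1) ∨
      (∀ x, x ^ 3 = 1 → Commute x (s * s) → Commute x a → x = 1) := by
  classical
  by_contra hne
  simp only [not_or, not_forall] at hne
  obtain ⟨⟨u, u3, uz, ub, u1⟩, x₀, x3, xz, xa, x1⟩ := hne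
  obtain ⟨W, hW, -, -, -⟩ := F.exists_core h
  obtain ⟨f, f3, f1, f2, fa⟩ := F.exists_cycle h
  set Wa := W ⊓ Subgroup.centralizer ({a} : Set G) with hWa
  have memWa : ∀ {x : G}, x ∈ Wa ↔ x ^ 3 = 1 ∧ Commute x (s * s) ∧ Commute x a := fun {x} => by
    rw [hWa, Subgroup.mem_inf, hW, Subgroup.mem_centralizer_singleton_iff, and_assoc]; rfl
  have conjf : ∀ {x v : G}, Commute x v → Commute (f * x * f⁻¹) (f * v * f⁻¹) := fun {x v} hc =>
    Commute.map hc (MulAut.conj f).toMonoidHom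
  have hWaf : ∀ x ∈ Wa, f * x * f⁻¹ ∈ Wa := fun x hx => by
    obtain ⟨h3, hz, ha⟩ := memWa.1 hx
    refine memWa.2 ⟨by rw [conj_pow, h3, mul_one, mul_inv_cancel], fa ▸ conjf ha, ?_⟩
    exact f2 ▸ conjf (hz.mul_right ha)
  have h3dvd : 3 ∣ Nat.card Wa := by
    have hd := Wa.orderOf_dvd_natCard (memWa.2 ⟨x3, xz, xa⟩)
    haveI : Fact (Nat.Prime 3) := ⟨Nat.prime_three⟩
    rwa [orderOf_eq_prime x3 x1] at hd
  obtain ⟨y, hy, y1, hfy⟩ : ∃ y ∈ Wa, y ≠ 1 ∧ Commute f y := by
    obtain ⟨y, hy, hfy⟩ := SpecFive.exists_fixed Nat.prime_three f3 ((Wa : Set G) \ {1})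
      (fun y hy => ⟨hWaf y hy.1, fun e => hy.2 (conj_eq_one_iff.1 e)⟩) (by
        rw [Nat.card_coe_set_eq, Set.ncard_sdiff_singleton_of_mem (one_mem Wa)]
        rw [← Nat.card_coe_set_eq]
        have hpos := Nat.card_pos (α := Wa)
        intro hd
        have : Nat.card ↥(Wa : Set G) = Nat.card Wa := rfl
        omega)
    exact ⟨y, hy.1, hy.2, hfy⟩
  obtain ⟨y3, yz, ya⟩ := memWa.1 hy
  obtain ⟨R, hR, hRn, hRz, -⟩ := F.centralizer_facts h hr y3 y1 yz ya
  have huy : Commute u y := F.core_comm h u3 uz y3 yz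
  have huR : u ∈ R := hRz u u3 huy uz
  obtain ⟨v, hv⟩ : ∃ v, v = f * u * f⁻¹ := ⟨_, rfl⟩
  obtain ⟨w, hw⟩ : ∃ w, w = f * v * f⁻¹ := ⟨_, rfl⟩
  have hvR : v ∈ R := hv ▸ hRn f hfy u huR
  have hwR : w ∈ R := hw ▸ hRn f hfy v hvR
  have hprod : (u * f) ^ 3 = u * v * w := by
    calc (u * f) ^ 3 = u * (f * u * f⁻¹) * (f * (f * u * f⁻¹) * f⁻¹) * f ^ 3 := by
          simp only [pow_succ, pow_zero, one_mul, mul_assoc, inv_mul_cancel_left]
      _ = u * v * w := by rw [hw, hv, f3, mul_one]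
  have h9 : (u * v * w) ^ 3 = 1 := (hR _ (mul_mem (mul_mem huR hvR) hwR)).1
  have huvw : u * v * w = 1 := by
    rw [← hprod] at h9 ⊢
    rw [← pow_mul] at h9
    rcases h (u * f) with e | e | e
    · exact eq_one_of_pow_coprime (show Nat.Coprime 4 9 by norm_num)
        (show ((u * f) ^ 3) ^ 4 = 1 by rw [← pow_mul, mul_comm, pow_mul, e, one_pow])
        (by rw [← pow_mul, mul_comm, pow_mul, show (u * f) ^ 9 = 1 from h9, one_pow])
    · exact eq_one_of_pow_coprime (show Nat.Coprime 5 9 by norm_num)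
        (show ((u * f) ^ 3) ^ 5 = 1 by rw [← pow_mul, mul_comm, pow_mul, e, one_pow])
        (by rw [← pow_mul, mul_comm, pow_mul, show (u * f) ^ 9 = 1 from h9, one_pow])
    · have h9' : (u * f) ^ 9 = 1 := h9
      exact (pow_gcd_eq_one.2 ⟨e, h9'⟩ : (u * f) ^ (Nat.gcd 6 9) = 1)
  have uu : (s * s) * u * (s * s)⁻¹ = u := by rw [uz.symm.eq, mul_inv_cancel_right]
  have au : a * u * a⁻¹ = u⁻¹ := F.a_inverts h u3 uz ub
  have hv' : (s * s) * v * (s * s)⁻¹ = v⁻¹ := by
    calc (s * s) * v * (s * s)⁻¹ = f * (a * u * a⁻¹) * f⁻¹ := by rw [← fa, hv]; group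
      _ = v⁻¹ := by rw [au, hv]; group
  have hav : (s * s * a) * v * (s * s * a)⁻¹ = v := by
    calc (s * s * a) * v * (s * s * a)⁻¹ = f * ((s * s) * u * (s * s)⁻¹) * f⁻¹ := by
          rw [← f1, hv]; group
      _ = v := by rw [uu, hv]
  have hw' : (s * s) * w * (s * s)⁻¹ = w⁻¹ := by
    have haw : a * w * a⁻¹ = w := by
      calc a * w * a⁻¹ = f * ((s * s * a) * v * (s * s * a)⁻¹) * f⁻¹ := by
            rw [hw]
            conv_lhs => rw [← f2]
            group
        _ = w := by rw [hav, hw]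
    have hzaw : (s * s * a) * w * (s * s * a)⁻¹ = w⁻¹ := by
      calc (s * s * a) * w * (s * s * a)⁻¹ = f * ((s * s) * v * (s * s)⁻¹) * f⁻¹ := by
            rw [← f1, hw]; group
        _ = w⁻¹ := by rw [hv', hw]; group
    calc (s * s) * w * (s * s)⁻¹ = (s * s * a * a) * w * (s * s * a * a)⁻¹ := by
          rw [mul_assoc (s * s) a a, F.a2, mul_one]
      _ = (s * s * a) * (a * w * a⁻¹) * (s * s * a)⁻¹ := by group
      _ = w⁻¹ := by rw [haw, hzaw]
  have e2 : u * v⁻¹ * w⁻¹ = 1 := by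
    calc u * v⁻¹ * w⁻¹ = ((s * s) * u * (s * s)⁻¹) * ((s * s) * v * (s * s)⁻¹) *
          ((s * s) * w * (s * s)⁻¹) := by rw [uu, hv', hw']
      _ = (s * s) * (u * v * w) * (s * s)⁻¹ := by group
      _ = 1 := by rw [huvw]; group
  have v3 := (hR v hvR).1
  have w3 := (hR w hwR).1
  have eu : u = w * v := by
    calc u = u * v⁻¹ * w⁻¹ * (w * v) := by group
      _ = w * v := by rw [e2, one_mul]
  have ev : v * v = (w * w)⁻¹ := by
    rw [eu] at huvw
    calc v * v = w⁻¹ * (w * v * v * w) * w⁻¹ := by group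
      _ = (w * w)⁻¹ := by rw [huvw]; group
  have evw : v = w⁻¹ := by
    calc v = (v ^ 3) * (v * v)⁻¹ := by group
      _ = w * w := by rw [v3, ev, inv_inv, one_mul]
      _ = w ^ 3 * w⁻¹ := by rw [pow_succ, mul_inv_cancel_right, pow_two]
      _ = w⁻¹ := by rw [w3, one_mul]
  exact u1 (by rw [eu, evw, mul_inv_cancel])

end D8Frame

end CfsgLib.SpecSix
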