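import Cfsg.Agent.SpecSix.RankTwoLocal
import Cfsg.Agent.S4481
import Cfsg.Agent.S4482
import Cfsg.Agent.HerzogThree.Chars
import Cfsg.Agent.Blocks.Orth.ClassMult
import Cfsg.Agent.Blocks.PrimeGram.BlockEquation
import Cfsg.Agent.Chars.Basic.ClassSum
import Mathlib.Tactic.IntervalCases
import Mathlib.Tactic.NormNum.Prime

/-!
Rank two, elements of order at most six: the block equation gives the group order 81000.
-/

set_option autoImplicit false
set_option linter.style.haveILetI false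

namespace CfsgLib.SpecSix

open Cfsg
open CfsgLib.SpecFive (eq_one_of_pow_coprime)

universe u

theorem three_pow_add_one {m e : ℕ} (hm : 1 ≤ m) (h : 3 ^ m + 1 = 2 * 5 ^ e) : m = 2 := by
  rcases e with _ | _ | e
  · exfalso
    have : 3 ^ 1 ≤ 3 ^ m := Nat.pow_le_pow_right (by norm_num) hm
    omega
  · exact Nat.pow_right_injective (le_refl 2 |>.trans (by norm_num : 2 ≤ 3))
      (show 3 ^ m = 3 ^ 2 by norm_num at h ⊢; omega)
  · exfalso
    have h25 : (3 ^ m + 1) % 25 = 0 := by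
      rw [h, pow_succ, pow_succ, show 2 * (5 ^ e * 5 * 5) = 25 * (2 * 5 ^ e) by ring]
      exact Nat.mul_mod_right 25 _
    have hper : ∀ M : ℕ, 3 ^ 20 % M = 1 → 3 ^ m % M = 3 ^ (m % 20) % M := fun M hM => by
      conv_lhs => rw [← Nat.div_add_mod m 20]
      rw [pow_add, pow_mul, Nat.mul_mod, Nat.pow_mod, hM, one_pow]
      rcases Nat.lt_or_ge 1 M with h1 | h1
      · rw [Nat.mod_eq_of_lt h1, one_mul, Nat.mod_mod]
      · have := Nat.mod_le 1 M
        interval_cases M <;> simp at hM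
    have hr : m % 20 = 10 := by
      have h1 := hper 25 (by norm_num)
      have h2 := Nat.add_mod (3 ^ m) 1 25
      rw [h25, h1] at h2
      have hlt : m % 20 < 20 := Nat.mod_lt _ (by norm_num)
      generalize m % 20 = r at h2 hlt ⊢
      interval_cases r <;> first | rfl | (norm_num at h2)
    have hd : 1181 ∣ 2 * 5 ^ (e + 1 + 1) := by
      rw [← h, Nat.dvd_iff_mod_eq_zero, Nat.add_mod, hper 1181 (by norm_num), hr]
      norm_num
    have hp : Nat.Prime 1181 := by norm_num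
    rcases hp.dvd_mul.1 hd with e1 | e1
    · norm_num at e1
    · have := (Nat.prime_dvd_prime_iff_eq hp Nat.prime_five).1 (hp.dvd_of_dvd_pow e1)
      omega

theorem exists_three_five {n : ℕ} (hn : 0 < n) (h : ∀ q : ℕ, q.Prime → q ∣ n → q = 3 ∨ q = 5) :
    ∃ i j : ℕ, n = 3 ^ i * 5 ^ j := by
  obtain ⟨i, m, hm3, hm⟩ := Nat.exists_eq_pow_mul_and_not_dvd hn.ne' 3 (by norm_num)
  refine ⟨i, m.primeFactorsList.length, ?_⟩
  rw [hm, ← Nat.eq_prime_pow_of_unique_prime_dvd (p := 5) (n := m) (fun e => hm3 (e ▸ dvd_zero 3))]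
  intro d hd hdm
  exact (h d hd (hm ▸ hdm.mul_left _)).resolve_left fun e => hm3 (e ▸ hdm)

theorem order_eq {N x m : ℕ} {d : ℤ} (hd : d = 1 ∨ d = -1) (hm : 1 ≤ m) (hN : Odd N)
    (hNp : ∀ q : ℕ, q.Prime → q ∣ N → q = 3 ∨ q = 5) (hx : 1 < x)
    (hxp : ∀ q : ℕ, q.Prime → q ∣ x → q = 3 ∨ q = 5) (hmod : (4 : ℤ) ∣ x - d)
    (heq : (8 * N : ℤ) * ((x : ℤ) - d) ^ 2 = 64 * x * (x + d) * 3 ^ m * (3 ^ m + 1) ^ 2) :
    m = 2 ∧ 8 * N = 81000 := by
  obtain ⟨k, hk⟩ := hmod
  obtain ⟨H, hH⟩ : ∃ H : ℕ, (x : ℤ) + d = 2 * H :=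
    ⟨(2 * k + d).toNat, by rcases hd with rfl | rfl <;> omega⟩
  have hHk : (H : ℤ) = 2 * k + d := by omega
  have hHpos : 0 < H := by rcases hd with rfl | rfl <;> omega
  have eN : (N : ℤ) * k ^ 2 = x * H * 3 ^ m * (3 ^ m + 1) ^ 2 := by
    rw [hk, hH] at heq
    linarith
  obtain ⟨u, hu⟩ : (2 : ℕ) ∣ 3 ^ m + 1 := even_iff_two_dvd.1 ((Odd.pow (by decide : Odd 3)).add_one)
  have huz : (3 : ℤ) ^ m + 1 = 2 * u := by exact_mod_cast hu
  obtain ⟨l, hl⟩ : (2 : ℤ) ∣ k := by
    have h2 : (2 : ℤ) ∣ (N : ℤ) * k ^ 2 := ⟨x * H * 3 ^ m * (2 * u ^ 2), by rw [eN, huz]; ring⟩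
    rcases Int.prime_two.dvd_mul.1 h2 with h | h
    · exact absurd (Int.natCast_dvd_natCast.1 (by exact_mod_cast h : ((2 : ℕ) : ℤ) ∣ N))
        (fun h' => Nat.not_even_iff_odd.2 hN (even_iff_two_dvd.2 h'))
    · exact Int.prime_two.dvd_of_dvd_pow h
  have hd1 : ∀ q : ℕ, q.Prime → ¬ (q : ℤ) ∣ d := fun q hq h => by
    rcases hd with rfl | rfl
    · exact hq.not_dvd_one (by exact_mod_cast Int.natCast_dvd.1 h)
    · exact hq.not_dvd_one (by simpa using Int.natCast_dvd.1 h)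
  have hHp : ∀ q : ℕ, q.Prime → q ∣ H → q = 3 ∨ q = 5 := by
    intro q hq hqH
    have hqz : (q : ℤ) ∣ H := Int.natCast_dvd_natCast.2 hqH
    have hp : Prime (q : ℤ) := Nat.prime_iff_prime_int.1 hq
    have h2 : (q : ℤ) ∣ (N : ℤ) * k ^ 2 := by
      rw [eN]; exact ((hqz.mul_left _).mul_right _).mul_right _
    rcases hp.dvd_mul.1 h2 with h | h
    · exact hNp q hq (Int.natCast_dvd_natCast.1 h)
    · refine absurd ?_ (hd1 q hq)
      have := dvd_sub hqz ((hp.dvd_of_dvd_pow h).mul_left 2)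
      rwa [hHk, add_sub_cancel_left] at this
  have hco : ∀ q : ℕ, q.Prime → q ∣ x → q ∣ H → False := fun q hq h1 h2 => hd1 q hq (by
    have := dvd_sub ((Int.natCast_dvd_natCast.2 h2).mul_left 2) (Int.natCast_dvd_natCast.2 h1)
    rwa [← hH, add_sub_cancel_left] at this)
  obtain ⟨a, b, hab⟩ := exists_three_five (Nat.zero_lt_of_lt hx) hxp
  obtain ⟨c, e, hce⟩ := exists_three_five hHpos hHp
  have h3 : a = 0 ∨ c = 0 := by
    by_contra hh
    simp only [not_or] at hh
    exact hco 3 Nat.prime_three (hab ▸ (dvd_pow_self 3 hh.1).mul_right _)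
      (hce ▸ (dvd_pow_self 3 hh.2).mul_right _)
  have h5 : b = 0 ∨ e = 0 := by
    by_contra hh
    simp only [not_or] at hh
    exact hco 5 Nat.prime_five (hab ▸ (dvd_pow_self 5 hh.1).mul_left _)
      (hce ▸ (dvd_pow_self 5 hh.2).mul_left _)
  have hone : H = 1 → False := fun h1 => by
    subst h1
    rcases hd with rfl | rfl <;> omega
  obtain ⟨rfl, rfl, hx9⟩ : d = 1 ∧ H = 5 ∧ x = 9 := by
    rcases h3 with rfl | rfl <;> rcases h5 with rfl | rfl
    · simp at hab; omega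
    · rw [pow_zero, one_mul] at hab
      rw [pow_zero, mul_one] at hce
      exfalso
      have h8 : ∀ i : ℕ, 5 ^ i % 8 = 1 ∨ 5 ^ i % 8 = 5 := fun i => by
        induction i with
        | zero => exact Or.inl rfl
        | succ i ih => rw [pow_succ]; omega
      have h24 : ∀ i : ℕ, (5 ^ i % 8 = 1 → 5 ^ i % 3 = 1) ∧ (5 ^ i % 8 = 5 → 5 ^ i % 3 = 2) := fun i => by
        induction i with
        | zero => simp
        | succ i ih => rcases h8 i with e1 | e1 <;> rw [pow_succ] <;> omega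
      rcases c with _ | c
      · exact hone (by simpa using hce)
      rw [pow_succ] at hce
      have := h8 b
      have := h24 b
      rw [← hab] at *
      rcases hd with rfl | rfl <;> omega
    · rw [pow_zero, mul_one] at hab
      rw [pow_zero, one_mul] at hce
      have h8 : ∀ i : ℕ, 3 ^ i % 8 = 1 ∨ 3 ^ i % 8 = 3 := fun i => by
        induction i with
        | zero => exact Or.inl rfl
        | succ i ih => rw [pow_succ]; omega
      have := h8 a
      rw [← hab] at this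
      obtain rfl : d = 1 := by rcases hd with rfl | rfl <;> omega
      have ha : 1 ≤ a := Nat.one_le_iff_ne_zero.2 fun e0 => by rw [e0] at hab; omega
      obtain rfl := three_pow_add_one (m := a) (e := e) ha (by rw [← hab, ← hce]; omega)
      refine ⟨rfl, by omega, by omega⟩
    · exact (hone (by simpa using hce)).elim
  obtain rfl : k = 2 := by omega
  subst hx9
  have eN' : (N : ℤ) = 45 * 3 ^ m * u ^ 2 := by
    push_cast at eN
    rw [huz] at eN
    linarith
  have eN2 : N = 45 * 3 ^ m * u ^ 2 := by exact_mod_cast eN'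
  have hu0 : 0 < u := Nat.pos_of_ne_zero fun e => by subst e; simp at hu
  obtain ⟨i, j, hij⟩ := exists_three_five hu0 fun q hq hqu =>
    hNp q hq (eN2 ▸ (hqu.trans (dvd_pow_self u two_ne_zero)).mul_left _)
  obtain rfl : i = 0 := by
    by_contra hi
    have h3u : 3 ∣ 3 ^ m + 1 := hu ▸ (hij ▸ (dvd_pow_self 3 hi).mul_right _ : 3 ∣ u).mul_left 2
    exact absurd ((Nat.dvd_add_right (dvd_pow_self 3 (by omega : m ≠ 0))).1 h3u) (by norm_num)
  rw [pow_zero, one_mul] at hij
  obtain rfl := three_pow_add_one hm (hij ▸ hu)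
  refine ⟨rfl, ?_⟩
  obtain rfl : u = 5 := by omega
  omega

variable {G : Type u} [Group G] [Finite G]

theorem prime_of_dvd_card (h : Ord6 G) {q : ℕ} (hq : q.Prime) (hd : q ∣ Nat.card G) :
    q = 2 ∨ q = 3 ∨ q = 5 := by
  haveI := Fact.mk hq
  obtain ⟨g, hg⟩ := exists_prime_orderOf_dvd_card' (G := G) q hd
  rcases h.orderOf_cases g with e | e | e | e | e | e <;> rw [hg] at e <;> subst e
  · exact absurd hq (by norm_num)
  · exact Or.inl rfl
  · exact Or.inr (Or.inl rfl)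
  · exact absurd hq (by norm_num)
  · exact Or.inr (Or.inr rfl)
  · exact absurd hq (by norm_num)

namespace D8Frame

variable {s a : G}

theorem card_four (F : D8Frame s a) (h : Ord6 G) (W' : Subgroup G)
    (hW' : ∀ x, x ∈ W' ↔ x ^ 3 = 1 ∧ Commute x (s * s) ∧ Commute x a) :
    Nat.card ↥(Subgroup.centralizer ({s * s, a} : Set G)) = 4 * Nat.card W' := by
  classical
  haveI : Fact (Nat.Prime 2) := ⟨Nat.prime_two⟩
  obtain ⟨W, hW, -, hCW, hWn⟩ := F.exists_core h
  set C := Subgroup.centralizer ({s * s} : Set G) with hC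
  set D := Subgroup.centralizer ({s * s, a} : Set G) with hD
  have memD : ∀ {x : G}, x ∈ D ↔ Commute x (s * s) ∧ Commute x a := fun {x} => by
    rw [hD, Subgroup.mem_centralizer_iff]
    exact ⟨fun hh => ⟨(hh _ (Or.inl rfl)).symm, (hh _ (Or.inr rfl)).symm⟩,
      fun hh q hq => hq.elim (fun e => e ▸ hh.1.symm.eq) fun e => (Set.mem_singleton_iff.1 e) ▸ hh.2.symm.eq⟩
  have hDC : D ≤ C := fun x hx => Subgroup.mem_centralizer_singleton_iff.2 (memD.1 hx).1
  have hinf : W ⊓ D = W' := by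
    ext x
    rw [Subgroup.mem_inf, hW, memD, hW']
    exact ⟨fun hh => ⟨hh.1.1, hh.1.2, hh.2.2⟩, fun hh => ⟨⟨hh.1, hh.2.1⟩, hh.2⟩⟩
  have hW'D : W' ≤ D := hinf ▸ inf_le_right
  have hdvd : W'.relIndex D ∣ 8 := by
    rw [← hinf, Subgroup.inf_relIndex_right, ← Subgroup.relIndex_subgroupOf hDC]
    haveI := hWn
    have h8 : (W.subgroupOf C).index = 8 := by
      have := (W.subgroupOf C).card_mul_index
      rw [Nat.card_congr (Subgroup.subgroupOfEquivOfLe (fun x hx =>
        Subgroup.mem_centralizer_singleton_iff.2 ((hW x).1 hx).2 : W ≤ C)).toEquiv, hCW, mul_comm 8] at this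
      exact Nat.eq_of_mul_eq_mul_left Nat.card_pos this
    exact h8 ▸ Subgroup.relIndex_dvd_index_of_normal (H := W.subgroupOf C) (K := D.subgroupOf C)
  have hcard : Nat.card W' * W'.relIndex D = Nat.card D := by
    rw [← Subgroup.relIndex_bot_left W', ← Subgroup.relIndex_bot_left D]
    exact Subgroup.relIndex_mul_relIndex _ _ _ bot_le hW'D
  have hge : 4 ≤ W'.relIndex D := by
    have hzD : s * s ∈ D := memD.2 ⟨Commute.refl _, F.za⟩
    have haD : a ∈ D := memD.2 ⟨F.za.symm, Commute.refl _⟩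
    obtain ⟨z, hz⟩ : ∃ z, z = s * s := ⟨_, rfl⟩
    have ha2 := F.a2
    have hainv := F.a_inv
    have hza := F.za
    have hzord := F.z_order
    have hzaord := F.za_order
    have hz2 := F.z_sq
    have hzinv := F.z_inv
    rw [← hz] at hzD hza hzord hzaord hz2 hzinv
    let v : Bool × Bool → G := fun p => (if p.1 then z else 1) * (if p.2 then a else 1)
    have hvmem : ∀ p, v p ∈ D := fun p =>
      mul_mem (by split <;> [exact hzD; exact one_mem _]) (by split <;> [exact haD; exact one_mem _])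
    let φ : Bool × Bool → ↥D ⧸ W'.subgroupOf D := fun p => (⟨v p, hvmem p⟩ : D)
    have key : ∀ x : G, orderOf x = 2 → x ∉ W' := fun x hx hm => by
      have := orderOf_dvd_of_pow_eq_one ((hW' x).1 hm).1
      rw [hx] at this
      norm_num at this
    have hv : ∀ p q, (v p)⁻¹ * v q = v (xor p.1 q.1, xor p.2 q.2) := by
      have zz : ∀ x, z * (z * x) = x := fun x => by rw [← mul_assoc, hz2, one_mul]
      have aa : ∀ x, a * (a * x) = x := fun x => by rw [← mul_assoc, ha2, one_mul]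
      have az : a * z = z * a := hza.eq.symm
      have az' : ∀ x, a * (z * x) = z * (a * x) := fun x => by rw [← mul_assoc, az, mul_assoc]
      rintro ⟨_ | _, _ | _⟩ ⟨_ | _, _ | _⟩ <;>
        simp [v, mul_assoc, hzinv, hainv, hz2, ha2, zz, aa, az, az']
    have hφ : Function.Injective φ := by
      intro p q e
      have hm : (v p)⁻¹ * v q ∈ W' := by
        have := Subgroup.mem_subgroupOf.1 (QuotientGroup.eq.1 e)
        simpa using this
      rw [hv] at hm
      rcases p with ⟨_ | _, _ | _⟩ <;> rcases q with ⟨_ | _, _ | _⟩ <;> first | rfl | exfalso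
      all_goals
        simp [v] at hm
        first
        | exact key _ hzord hm
        | exact key _ F.a_order hm
        | exact key _ hzaord hm
    have := Nat.card_le_card_of_injective φ hφ
    rw [show Nat.card (Bool × Bool) = 4 by simp] at this
    exact this
  have hne8 : W'.relIndex D ≠ 8 := by
    intro e8
    obtain ⟨Q⟩ : Nonempty (Sylow 2 D) := inferInstance
    have h8 : 8 ≤ Nat.card Q := by
      have hd : 2 ^ 3 ∣ Nat.card D := ⟨Nat.card W', by rw [← hcard, e8]; ring⟩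
      exact Nat.le_of_dvd Nat.card_pos (by simpa using Q.pow_dvd_card_of_pow_dvd_card hd)
    have hcentral : ∀ c : D, orderOf c = 2 → (∀ x : D, Commute x c) → c ∈ (Q : Subgroup D) := by
      intro c hc hcomm
      haveI : (Subgroup.zpowers c).Normal := ⟨fun x hx g => by
        obtain ⟨i, rfl⟩ := Subgroup.mem_zpowers_iff.1 hx
        rw [((hcomm g).zpow_right i).eq, mul_inv_cancel_right]
        exact Subgroup.zpow_mem _ (Subgroup.mem_zpowers c) i⟩
      have hp : IsPGroup 2 ↥(Subgroup.zpowers c ⊔ (Q : Subgroup D)) :=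
        IsPGroup.to_sup_of_normal_left (IsPGroup.of_card (n := 1)
          (by rw [Nat.card_zpowers, hc, pow_one])) Q.isPGroup'
      exact (Q.is_maximal' hp le_sup_right).le (le_sup_left (b := (Q : Subgroup D)) (Subgroup.mem_zpowers c))
    obtain ⟨R, hR⟩ := (Q.isPGroup'.map D.subtype).exists_le_sylow
    have hR' : (Q : Subgroup D).map D.subtype = (R : Subgroup G) := by
      refine Subgroup.eq_of_le_of_card_ge hR ?_
      rw [Subgroup.card_map_of_injective D.subtype_injective, F.two_group_card R]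
      exact h8
    have zD : s * s ∈ D := memD.2 ⟨Commute.refl _, F.za⟩
    have aD : a ∈ D := memD.2 ⟨F.za.symm, Commute.refl _⟩
    have zR : s * s ∈ (R : Subgroup G) := hR' ▸ ⟨⟨_, zD⟩, hcentral _
      (by rw [Subgroup.orderOf_mk]; exact F.z_order) (fun x => Subtype.ext (memD.1 x.2).1.eq), rfl⟩
    have aR : a ∈ (R : Subgroup G) := hR' ▸ ⟨⟨_, aD⟩, hcentral _
      (by rw [Subgroup.orderOf_mk]; exact F.a_order) (fun x => Subtype.ext (memD.1 x.2).2.eq), rfl⟩
    obtain ⟨ε⟩ := F.iso R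
    have hRD : ∀ x ∈ (R : Subgroup G), Commute x (s * s) ∧ Commute x a := by
      rw [← hR']
      rintro _ ⟨x, -, rfl⟩
      exact memD.1 x.2
    have key : ∀ x y : DihedralGroup 4, (∀ g, x * g = g * x) → (∀ g, y * g = g * y) →
        x * x = 1 → y * y = 1 → x ≠ 1 → y ≠ 1 → x = y := by decide
    have hc : ∀ (v : G) (hv : v ∈ (R : Subgroup G)), (∀ x ∈ (R : Subgroup G), Commute x v) →
        ∀ g, ε ⟨v, hv⟩ * g = g * ε ⟨v, hv⟩ := fun v hv hh g => by
      obtain ⟨⟨w, hw⟩, rfl⟩ := ε.surjective g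
      rw [← map_mul, ← map_mul]
      exact congrArg ε (Subtype.ext (hh w hw).eq.symm)
    refine F.a_ne_z (congrArg Subtype.val (ε.injective (key (ε ⟨a, aR⟩) (ε ⟨_, zR⟩)
      (hc a aR fun x hx => (hRD x hx).2) (hc _ zR fun x hx => (hRD x hx).1) ?_ ?_ ?_ ?_)))
    · rw [← map_mul, ← map_one ε]; exact congrArg ε (Subtype.ext F.a2)
    · rw [← map_mul, ← map_one ε]; exact congrArg ε (Subtype.ext F.z_sq)
    · exact fun e => F.a_ne_one (congrArg Subtype.val (ε.map_eq_one_iff.1 e))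
    · exact fun e => F.z_ne_one (congrArg Subtype.val (ε.map_eq_one_iff.1 e))
  obtain ⟨i, hi, hi'⟩ := (Nat.dvd_prime_pow Nat.prime_two).1 (show W'.relIndex D ∣ 2 ^ 3 from hdvd)
  rw [← hcard, mul_comm]
  congr 1
  rw [hi'] at hge hne8 ⊢
  interval_cases i <;> simp_all

/-- With a trivial weight the group has order 81000. -/
theorem card_eq (F : D8Frame s a) [IsSimpleGroup G] (hna : ¬ IsMulCommutative G) (h : Ord6 G)
    (hb : ∀ x, x ^ 3 = 1 → Commute x (s * s) → Commute x (s * a) → x = 1) :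
    ∃ W : Subgroup G, (∀ x, x ∈ W ↔ x ^ 3 = 1 ∧ Commute x (s * s)) ∧
      (∀ x ∈ W, Commute x a) ∧ Nat.card W = 9 ∧ Nat.card G = 81000 := by
  classical
  haveI : Fact (Nat.Prime 2) := ⟨Nat.prime_two⟩
  haveI : Fact (Nat.Prime 3) := ⟨Nat.prime_three⟩
  haveI := Fintype.ofFinite G
  obtain ⟨W, hW, hW1, hCW, -⟩ := F.exists_core h
  have hWa : ∀ x ∈ W, Commute x a := by
    intro x hx
    obtain ⟨h3, hz⟩ := (hW x).1 hx
    obtain ⟨v, hv⟩ : ∃ v, v = a * x * a⁻¹ * x⁻¹ := ⟨_, rfl⟩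
    have hmem : v ∈ W := hv ▸ mul_mem ((hW _).2 (F.conj_mem_core F.za.symm ⟨h3, hz⟩)) (inv_mem hx)
    obtain ⟨v3, vz⟩ := (hW v).1 hmem
    have hax := F.conj_mem_core F.za.symm ⟨h3, hz⟩
    have hav : a * v * a⁻¹ = v⁻¹ := by
      calc a * v * a⁻¹ = a * a * x * (a * a)⁻¹ * (a * x * a⁻¹)⁻¹ := by rw [hv]; group
        _ = v⁻¹ := by rw [F.a2, hv]; group
    have hsav : s * a * v * (s * a)⁻¹ = v := by
      calc s * a * v * (s * a)⁻¹ = s * (a * v * a⁻¹) * s⁻¹ := by group
        _ = (s * v * s⁻¹)⁻¹ := by rw [hav]; group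
        _ = v := by rw [F.s_inverts h v3 vz, inv_inv]
    have := hb v v3 vz (mul_inv_eq_iff_eq_mul.1 hsav).symm
    rw [hv, mul_inv_eq_one] at this
    exact (mul_inv_eq_iff_eq_mul.1 this).symm
  have hc1 := F.card_four h W fun x => ⟨fun hx => ⟨((hW x).1 hx).1, ((hW x).1 hx).2, hWa x hx⟩,
    fun hx => (hW x).2 ⟨hx.1, hx.2.1⟩⟩
  have hc2 := F.flip.card_four h ⊥ fun x => by
    rw [Subgroup.mem_bot]
    exact ⟨fun hx => by subst hx; exact ⟨one_pow 3, Commute.one_left _, Commute.one_left _⟩,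
      fun hx => hb x hx.1 hx.2.1 hx.2.2⟩
  rw [Subgroup.card_bot, mul_one] at hc2
  obtain ⟨m, hm⟩ := IsPGroup.iff_card.1 (show IsPGroup 3 W from fun x =>
    ⟨1, Subtype.ext (by simpa using ((hW x).1 x.2).1)⟩)
  have hm1 : 1 ≤ m := Nat.one_le_iff_ne_zero.2 fun e => hW1 (Subgroup.card_eq_one.1 (by rw [hm, e, pow_zero]))
  obtain ⟨P, hP⟩ := F.syl
  have hsP : s ∈ (P : Subgroup G) := hP ▸ Subgroup.subset_closure (Or.inl rfl)
  have haP : a ∈ (P : Subgroup G) := hP ▸ Subgroup.subset_closure (Or.inr rfl)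
  obtain ⟨M, hM⟩ := CfsgLib.PrimeGram.exists_isPModular 2
  have hso : orderOf s = 2 ^ (3 - 1) := by rw [F.os]; rfl
  obtain ⟨-, χ, _, _, _, d, _, _, hd, -, -, -, hne, -, -, -, -, -, -, hblock, hval, -⟩ :=
    Cfsg.Agent.S4481.result M hM 3 le_rfl P (F.iso P) s hsP hso
      (Complex.exp (2 * Real.pi * Complex.I / ((2 ^ (3 - 1) : ℕ) : ℂ)))
      (Complex.isPrimitiveRoot_exp _ (by norm_num))
  have hχB : χ ∈ principalBlock M G := by rw [hblock]; exact Or.inr (Or.inl rfl)
  have hv : ∀ l : ℕ, 0 < l → l < 4 → (χ : G → ℂ) (s ^ l) = d := fun l hl hl' => (hval l hl hl').1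
  have hs2 : s ^ (2 ^ (3 - 2)) = s * s := pow_two s
  obtain ⟨-, heq⟩ := Cfsg.Agent.S4482.result M hM 3 le_rfl P s a hsP haP hso F.a_order F.conj hP
    ⟨isConj_iff.2 (hs2 ▸ F.inv_conj _ _ F.z_order F.a_order),
      isConj_iff.2 (hs2 ▸ F.inv_conj _ _ F.z_order F.flip.a_order)⟩ χ hχB hne d hd hv
  rw [hs2, hCW, hc1, hc2, hm] at heq
  -- the congruence
  have hx := HerzogThree.one_lt_charDegree hna hne
  obtain ⟨k, hk⟩ := Blocks.exists_sum_subgroup_eq χ (Subgroup.zpowers s)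
  have hsum : ∑ u : Subgroup.zpowers s, (χ : G → ℂ) u = (charDegree (χ : G → ℂ) : ℂ) + 3 * d := by
    rw [← Fintype.sum_equiv ((finCongr F.os.symm).trans (finEquivZPowers (isOfFinOrder_of_finite s)))
      (fun i : Fin 4 => (χ : G → ℂ) (s ^ (i : ℕ))) _ (fun i => rfl), Fin.sum_univ_four]
    simp only [Fin.val_zero, Fin.val_one, Fin.val_two, show ((3 : Fin 4) : ℕ) = 3 from rfl, pow_zero]
    rw [hv 1 one_pos (by norm_num), hv 2 two_pos (by norm_num), hv 3 (by norm_num) (by norm_num),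
      ← Chars.coe_charDegree]
    ring
  rw [hk, Nat.card_zpowers, F.os] at hsum
  have hz4 : (4 : ℤ) * k = (charDegree (χ : G → ℂ) : ℤ) + 3 * d := by exact_mod_cast hsum
  obtain ⟨N, hN⟩ : ∃ N, N = (P : Subgroup G).index := ⟨_, rfl⟩
  have hG : Nat.card G = 8 * N := by rw [hN, ← F.two_group_card P, Subgroup.card_mul_index]
  have hNodd : Odd N := by
    rw [← Nat.not_even_iff_odd, even_iff_two_dvd, hN]
    exact P.not_dvd_index
  have hNp : ∀ q : ℕ, q.Prime → q ∣ N → q = 3 ∨ q = 5 := fun q hq hqN =>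
    (prime_of_dvd_card h hq (hG ▸ hqN.mul_left 8)).resolve_left fun e => by
      rw [e] at hqN
      exact Nat.not_even_iff_odd.2 hNodd (even_iff_two_dvd.2 hqN)
  have hxp : ∀ q : ℕ, q.Prime → q ∣ charDegree (χ : G → ℂ) → q = 3 ∨ q = 5 := fun q hq hqx =>
    (prime_of_dvd_card h hq (hqx.trans (Chars.charDegree_dvd_card χ))).resolve_left fun e => by
      subst e
      rcases hd with rfl | rfl <;> omega
  generalize charDegree (χ : G → ℂ) = x at heq hz4 hx hxp
  rw [hG] at heq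
  have hz : (8 * N : ℤ) * ((x : ℤ) - d) ^ 2 = 64 * x * (x + d) * 3 ^ m * (3 ^ m + 1) ^ 2 := by
    have hq : (8 * N : ℚ) * ((x : ℚ) - d) ^ 2 = 64 * x * (x + d) * 3 ^ m * (3 ^ m + 1) ^ 2 := by
      push_cast at heq
      rw [heq]
      have : (3 : ℚ) ^ m ≠ 0 := by positivity
      field_simp
      ring
    exact_mod_cast hq
  obtain ⟨rfl, h81⟩ := order_eq hd hm1 hNodd hNp hx hxp ⟨k - d, by linarith⟩ hz
  exact ⟨W, hW, hWa, by rw [hm]; norm_num, hG.trans h81⟩

end D8Frame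

end CfsgLib.SpecSix
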