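import Cfsg.Agent.SpecSix.Defs
import Cfsg.Agent.TwoRankTwo23.Main
import Cfsg.Agent.ZStar.IsolatedSylow
import Cfsg.Agent.S0225
import Cfsg.Agent.S0949
import Cfsg.Agent.S0205
import Cfsg.Agent.S0107
import Cfsg.Agent.S0514

/-!
Rank two, elements of order at most six: the Sylow 2-subgroups are dihedral of order eight when some
involution centraliser has a non-trivial core.
-/

set_option autoImplicit false

namespace CfsgLib.SpecSix

open Cfsg
open CfsgLib.SpecFive (eq_one_of_pow_coprime)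

universe u

variable {G : Type u} [Group G] [Finite G]

theorem pow_three_of_odd_of_commute (h : Ord6 G) {t x : G} (ht : orderOf t = 2)
    (hx : Odd (orderOf x)) (hc : Commute x t) : x ^ 3 = 1 := by
  rcases h.orderOf_cases x with e | e | e | e | e | e
  · rw [orderOf_eq_one_iff.1 e, one_pow]
  · rw [e] at hx; exact absurd hx (by decide)
  · rw [← e, pow_orderOf_eq_one]
  · rw [e] at hx; exact absurd hx (by decide)
  · exfalso
    have h5 : x ^ 5 = 1 := by rw [← e, pow_orderOf_eq_one]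
    have h1 := h.commute_five h5 (fun h1 => by rw [h1, orderOf_one] at e; omega) hc
    have := orderOf_dvd_of_pow_eq_one h1
    rw [ht] at this
    omega
  · rw [e] at hx; exact absurd hx (by decide)

theorem odd_orderOf_of_pow_three {x : G} (hx : x ^ 3 = 1) : Odd (orderOf x) := by
  rcases (Nat.dvd_prime Nat.prime_three).1 (orderOf_dvd_of_pow_eq_one hx) with e | e <;> rw [e] <;> decide

theorem not_orderOf_gt (h : Ord6 G) {g : G} {k : ℕ} (hk : orderOf g = k) : k ≤ 6 := hk ▸ h.orderOf_le g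

/-- An element acting without fixed points and squaring to a centralising element inverts. -/
theorem inverts_of_fpf {H : Subgroup G} {v : G} (hv : ∀ x ∈ H, v * x * v⁻¹ ∈ H)
    (hfix : ∀ x ∈ H, Commute v x → x = 1) (hsq : ∀ x ∈ H, Commute (v * v) x) :
    ∀ x ∈ H, v * x * v⁻¹ = x⁻¹ := by
  classical
  let f : H → H := fun x => ⟨(x : G)⁻¹ * (v * x * v⁻¹), mul_mem (inv_mem x.2) (hv x x.2)⟩
  have hf : Function.Injective f := by
    intro x y hxy
    have h1 : (x : G)⁻¹ * (v * x * v⁻¹) = (y : G)⁻¹ * (v * y * v⁻¹) := congrArg Subtype.val hxy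
    refine Subtype.ext ?_
    have h2 : v * ((y : G) * (x : G)⁻¹) * v⁻¹ = (y : G) * (x : G)⁻¹ := by
      calc v * ((y : G) * (x : G)⁻¹) * v⁻¹ = (v * y * v⁻¹) * (v * x * v⁻¹)⁻¹ := by group
        _ = (y : G) * ((y : G)⁻¹ * (v * y * v⁻¹)) * ((x : G)⁻¹ * (v * x * v⁻¹))⁻¹ * (x : G)⁻¹ := by group
        _ = _ := by rw [← h1]; group
    exact (mul_inv_eq_one.1 (hfix _ (mul_mem y.2 (inv_mem x.2)) (mul_inv_eq_iff_eq_mul.1 h2))).symm
  intro x hx
  obtain ⟨⟨w, hw⟩, he⟩ := (Finite.injective_iff_surjective.1 hf) ⟨x, hx⟩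
  have e : w⁻¹ * (v * w * v⁻¹) = x := congrArg Subtype.val he
  calc v * x * v⁻¹ = (v * w * v⁻¹)⁻¹ * (v * v * w * (v * v)⁻¹) := by rw [← e]; group
    _ = (v * w * v⁻¹)⁻¹ * w := by rw [(hsq w hw).eq, mul_inv_cancel_right]
    _ = x⁻¹ := by rw [← e]; group

theorem commute_of_mem_oddCore {t : G} {x : ↥(Subgroup.centralizer ({t} : Set G))}
    (_hx : x ∈ oddCore ↥(Subgroup.centralizer ({t} : Set G))) : Commute (x : G) t :=
  Subgroup.mem_centralizer_singleton_iff.1 x.2

theorem odd_of_mem_oddCore {H : Type u} [Group H] [Finite H] {x : H} (hx : x ∈ oddCore H) :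
    Odd (orderOf x) := by
  haveI : Fact (Nat.Prime 2) := ⟨Nat.prime_two⟩
  rw [← Nat.not_even_iff_odd, even_iff_two_dvd]
  exact fun hd => CfsgLib.Constrained.pPrimeCore_not_dvd
    (hd.trans (Subgroup.orderOf_dvd_natCard _ hx))

/-- Two roots of an involution with product of order four kill the core of its centraliser. -/
theorem oddCore_eq_bot_of_roots (h : Ord6 G) {z v v' : G} (hz : orderOf z = 2) (hv : v * v = z)
    (hv' : v' * v' = z) (hvv : orderOf (v * v') = 4) :
    oddCore ↥(Subgroup.centralizer ({z} : Set G)) = ⊥ := by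
  rw [eq_bot_iff]
  intro x hx
  have hroot : ∀ w : G, w * w = z → ∀ y ∈ oddCore ↥(Subgroup.centralizer ({z} : Set G)),
      w * (y : G) * w⁻¹ = (y : G)⁻¹ := by
    intro w hw y hy
    have hw4 : w ^ 4 = 1 := by
      rw [show (4 : ℕ) = 2 * 2 from rfl, pow_mul, pow_two w, hw, ← hz, pow_orderOf_eq_one]
    have hwz : w * w ≠ 1 := fun e => by rw [← hw, e, orderOf_one] at hz; omega
    have hwC : w ∈ Subgroup.centralizer ({z} : Set G) :=
      Subgroup.mem_centralizer_singleton_iff.2 (by rw [← hw]; group)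
    haveI : (oddCore ↥(Subgroup.centralizer ({z} : Set G))).Normal := inferInstance
    refine inverts_of_fpf
      (H := (oddCore ↥(Subgroup.centralizer ({z} : Set G))).map
        (Subgroup.centralizer ({z} : Set G)).subtype) ?_ ?_ ?_ y ⟨y, hy, rfl⟩
    · rintro _ ⟨u, hu, rfl⟩
      exact ⟨⟨w, hwC⟩ * u * ⟨w, hwC⟩⁻¹,
        (inferInstance : (oddCore ↥(Subgroup.centralizer ({z} : Set G))).Normal).conj_mem u hu _, rfl⟩
    · rintro _ ⟨u, hu, rfl⟩ hc
      have h4 := h.commute_four hw4 hwz hc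
      exact eq_one_of_pow_coprime (show Nat.Coprime 4 3 by norm_num) h4
        (pow_three_of_odd_of_commute h hz (by
          show Odd (orderOf ((u : G)))
          rw [Subgroup.orderOf_coe]; exact odd_of_mem_oddCore hu) (commute_of_mem_oddCore hu))
    · rintro _ ⟨u, hu, rfl⟩
      rw [hw]; exact (commute_of_mem_oddCore hu).symm
  have e : Commute (v * v') (x : G) := by
    refine mul_inv_eq_iff_eq_mul.1 ?_
    calc v * v' * (x : G) * (v * v')⁻¹ = v * (v' * x * v'⁻¹) * v⁻¹ := by group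
      _ = (v * x * v⁻¹)⁻¹ := by rw [hroot v' hv' x hx]; group
      _ = x := by rw [hroot v hv x hx, inv_inv]
  have h4 := h.commute_four (by rw [← hvv, pow_orderOf_eq_one]) (fun e1 => by
    have := orderOf_dvd_of_pow_eq_one (show (v * v') ^ 2 = 1 by rw [pow_two]; exact e1)
    rw [hvv] at this; omega) e
  rw [Subgroup.mem_bot]
  exact Subtype.ext (eq_one_of_pow_coprime (show Nat.Coprime 4 3 by norm_num) h4
    (pow_three_of_odd_of_commute h hz (by rw [Subgroup.orderOf_coe]; exact odd_of_mem_oddCore hx)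
      (commute_of_mem_oddCore hx)))

/-- In the unitary configuration every involution has two roots with product of order four. -/
theorem exists_roots {T : Type u} [Group T] [Finite T] {θ : MulAut T} {W : Subgroup T}
    (hU : CfsgLib.TwoFpf.IsUnitaryType θ W) {w : T} (hw : w ∈ W) (hw1 : w ≠ 1) :
    ∃ v v' : T, v * v = w ∧ v' * v' = w ∧ v * v' ∉ W := by
  classical
  obtain ⟨hs, hinv⟩ := hU
  haveI : W.Normal := ⟨fun a ha g => by
    rw [← (hs.four.comm ha g).eq, mul_inv_cancel_right]; exact ha⟩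
  suffices H : ∃ c ∈ W, c ≠ 1 ∧ ∃ v v' : T, v * v = c ∧ v' * v' = c ∧ v * v' ∉ W by
    obtain ⟨c, hc, hc1, v, v', hv, hv', hvv⟩ := H
    have hθW : ∀ u : T, θ u ∈ W → u ∈ W := fun u hu => by
      have := hs.four.inv _ (hs.four.inv _ hu)
      rwa [hs.fpf.cube] at this
    rcases hs.four.cases hs.fpf hc hc1 hw with e | e | e | e
    · exact absurd e hw1
    · exact ⟨v, v', by rw [e, hv], by rw [e, hv'], hvv⟩
    · exact ⟨θ v, θ v', by rw [e, ← map_mul, hv], by rw [e, ← map_mul, hv'],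
        fun hm => hvv (hθW _ (by rw [map_mul]; exact hm))⟩
    · exact ⟨θ (θ v), θ (θ v'), by rw [e, ← map_mul, ← map_mul, hv],
        by rw [e, ← map_mul, ← map_mul, hv'],
        fun hm => hvv (hθW _ (hθW _ (by rw [map_mul, map_mul]; exact hm)))⟩
  -- more cosets than values of the squaring map
  by_contra hno
  push Not at hno
  have hq : Nat.card (T ⧸ W) = 16 := by
    have := W.card_eq_card_quotient_mul_card_subgroup
    rw [hs.card, hs.four.card] at this
    omega
  have hout : ∀ q : T ⧸ W, q ≠ 1 → q.out * q.out ≠ 1 ∧ q.out ∉ W := by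
    intro q hq1
    have hoW : q.out ∉ W := fun hm => hq1 (by
      rw [← QuotientGroup.out_eq' q, (QuotientGroup.eq_one_iff _).2 hm])
    exact ⟨fun e => hoW (hinv _ e), hoW⟩
  let f : {q : T ⧸ W // q ≠ 1} → {c : W // c ≠ 1} := fun q =>
    ⟨⟨q.1.out * q.1.out, hs.sq _⟩, fun e => (hout q.1 q.2).1 (congrArg Subtype.val e)⟩
  have hf : Function.Injective f := by
    intro p q hpq
    have e : p.1.out * p.1.out = q.1.out * q.1.out :=
      congrArg (fun c : {c : W // c ≠ 1} => ((c : W) : T)) hpq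
    have hm := hno (p.1.out * p.1.out) (hs.sq _) (hout p.1 p.2).1 p.1.out q.1.out rfl e.symm
    refine Subtype.ext ?_
    rw [← QuotientGroup.out_eq' p.1, ← QuotientGroup.out_eq' q.1, QuotientGroup.eq]
    rw [show p.1.out⁻¹ * q.1.out = (p.1.out * p.1.out)⁻¹ * (p.1.out * q.1.out) by group]
    exact mul_mem (inv_mem (hs.sq _)) hm
  have h1 := Nat.card_le_card_of_injective f hf
  haveI := Fintype.ofFinite (T ⧸ W)
  haveI := Fintype.ofFinite W
  rw [Nat.card_eq_fintype_card, Nat.card_eq_fintype_card, Fintype.card_subtype_compl,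
    Fintype.card_subtype_eq, Fintype.card_subtype_compl, Fintype.card_subtype_eq,
    ← Nat.card_eq_fintype_card, ← Nat.card_eq_fintype_card, hq, hs.four.card] at h1
  omega

/-- The Sylow 2-subgroups are dihedral of order eight. -/
theorem exists_dihedral_eight [IsSimpleGroup G] (hna : ¬ IsMulCommutative G) (h : Ord6 G)
    (h4 : ∃ g : G, orderOf g = 4) (hr : PRankLE 2 2 G)
    (hW : ∃ t : G, orderOf t = 2 ∧ oddCore ↥(Subgroup.centralizer ({t} : Set G)) ≠ ⊥)
    (S : Sylow 2 G) : Nonempty ((S : Subgroup G) ≃* DihedralGroup 4) := by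
  haveI : Fact (Nat.Prime 2) := ⟨Nat.prime_two⟩
  have heven : Even (Nat.card G) := by
    obtain ⟨g, hg⟩ := h4
    rw [even_iff_two_dvd]
    exact (Dvd.intro 2 (by norm_num : 2 * 2 = 4)).trans (hg ▸ orderOf_dvd_natCard g)
  have hbot : ∀ N : Subgroup G, N.Normal → Odd (Nat.card N) → N = ⊥ := fun N hN hodd =>
    (hN.eq_bot_or_eq_top).resolve_right fun e => by
      rw [e, Subgroup.card_top] at hodd
      exact (Nat.not_odd_iff_even.2 heven) hodd
  have hno : ∀ z : G, orderOf z = 2 →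
      ¬ ∃ N : Subgroup G, N.Normal ∧ Odd (Nat.card N) ∧ ∀ g : G, z * g * z⁻¹ * g⁻¹ ∈ N := by
    rintro z hz ⟨N, hN, hodd, hg⟩
    rw [hbot N hN hodd] at hg
    have hzc : z ∈ Subgroup.center G := Subgroup.mem_center_iff.2 fun g => by
      have h := Subgroup.mem_bot.1 (hg g)
      rw [mul_inv_eq_one, mul_inv_eq_iff_eq_mul] at h
      exact h.symm
    rcases (inferInstance : (Subgroup.center G).Normal).eq_bot_or_eq_top with e | e
    · rw [e, Subgroup.mem_bot] at hzc
      rw [hzc, orderOf_one] at hz; omega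
    · exact hna ⟨⟨fun a b => (Subgroup.mem_center_iff.1 (e.ge (Subgroup.mem_top b)) a)⟩⟩
  have hiso : ∀ z : G, ¬ IsIsolatedInvolution z := fun z hz => by
    refine hno z hz.1 ⟨pPrimeCore 2 G, inferInstance, ?_, fun g => ?_⟩
    · rw [← Nat.not_even_iff_odd, even_iff_two_dvd]
      exact CfsgLib.Constrained.pPrimeCore_not_dvd
    · have h' := inv_mem (CfsgLib.ZStar.inZStar_of_isolatedInvolution hz g)
      simpa [mul_assoc] using h'
  have h1 : ¬ PRankLE 2 1 G := by
    intro h
    obtain ⟨z, hz, hN⟩ := Cfsg.Agent.S0225.result heven fun E hE => by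
      haveI := hE
      haveI : IsMulCommutative E := IsKleinFour.isMulCommutative
      have h' := h E inferInstance fun a ha => by
        have := congrArg Subtype.val (IsKleinFour.mul_self (⟨a, ha⟩ : E))
        simpa [pow_two] using this
      rw [IsKleinFour.card_four] at h'
      norm_num at h'
    exact hno z hz hN
  obtain ⟨g, hg⟩ := h4
  have hS4 : ∃ x : (S : Subgroup G), orderOf x = 4 := by
    obtain ⟨R, hR⟩ := (IsPGroup.of_card (p := 2) (n := 2)
      (show Nat.card (Subgroup.zpowers g) = 2 ^ 2 by rw [Nat.card_zpowers, hg]; norm_num)).exists_le_sylow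
    refine ⟨R.equiv S ⟨g, hR (Subgroup.mem_zpowers g)⟩, ?_⟩
    rw [MulEquiv.orderOf_eq, Subgroup.orderOf_mk, hg]
  have hle : ∀ {x : (S : Subgroup G)} {k : ℕ}, orderOf x = k → k ≤ 6 := fun {x k} hk =>
    not_orderOf_gt h (by rw [Subgroup.orderOf_coe, hk])
  rcases CfsgLib.TwoRankTwo23.sylow_shape hr hiso S h1 with
    ⟨m, hm, ⟨e⟩⟩ | hq | hw | ⟨n, hn, ⟨e⟩⟩ | ⟨W, ψ, hU⟩
  · have hm6 : m ≤ 6 := hle (x := e.symm (DihedralGroup.r 1))
      (by rw [MulEquiv.orderOf_eq, DihedralGroup.orderOf_r_one])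
    obtain ⟨x, hx⟩ := hS4
    haveI : NeZero m := ⟨by omega⟩
    have hcard : ∃ k, 2 * m = 2 ^ k := by
      obtain ⟨k, hk⟩ := S.isPGroup'.exists_card_eq
      exact ⟨k, by rw [← hk, Nat.card_congr e.toEquiv, DihedralGroup.nat_card]⟩
    have hm24 : m = 2 ∨ m = 4 := by
      obtain ⟨k, hk⟩ := hcard
      have hk3 : k ≤ 3 := by
        by_contra hc
        have : 2 ^ 4 ≤ 2 ^ k := Nat.pow_le_pow_right two_pos (by omega)
        omega
      interval_cases k <;> omega
    rcases hm24 with rfl | rfl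
    · exfalso
      rw [← MulEquiv.orderOf_eq e] at hx
      have key : ∀ y : DihedralGroup 2, y ^ 2 = 1 := by decide
      have := orderOf_dvd_of_pow_eq_one (key (e x))
      rw [hx] at this
      omega
    · exact ⟨e⟩
  · exfalso
    obtain ⟨n, hn, -, x, -, hx, -⟩ := hq
    have := hle hx
    have : 2 ^ 3 ≤ 2 ^ n := Nat.pow_le_pow_right two_pos hn
    omega
  · exfalso
    obtain ⟨n, hn, -, x, y, z, hx, hxy, hdis, hz, hzx⟩ := hw
    have hzz : z * z = 1 := by rw [← pow_two]; exact orderOf_dvd_iff_pow_eq_one.1 hz.dvd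
    have hsq : (x * z) * (x * z) = x * y := by
      rw [← hzx, inv_eq_of_mul_eq_one_right hzz]; group
    have hoxy : 2 ^ n ∣ orderOf (x * y) := by
      have h1 : (x * y) ^ orderOf (x * y) = 1 := pow_orderOf_eq_one _
      rw [(show Commute x y from hxy).mul_pow] at h1
      have hxm : x ^ orderOf (x * y) ∈ Subgroup.zpowers x ⊓ Subgroup.zpowers y :=
        ⟨pow_mem (Subgroup.mem_zpowers x) _, by
          rw [eq_inv_of_mul_eq_one_left h1]
          exact (Subgroup.zpowers y).inv_mem (pow_mem (Subgroup.mem_zpowers y) _)⟩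
      rw [hdis, Subgroup.mem_bot] at hxm
      exact hx ▸ orderOf_dvd_of_pow_eq_one hxm
    have h2n : 4 ≤ 2 ^ n := by
      calc 4 = 2 ^ 2 := rfl
        _ ≤ 2 ^ n := Nat.pow_le_pow_right two_pos hn
    have h4' : 4 ≤ orderOf (x * y) := h2n.trans (Nat.le_of_dvd (orderOf_pos _) hoxy)
    obtain ⟨k, hk⟩ := IsPGroup.iff_orderOf.1 S.isPGroup' (x * z)
    have hk2 : k ≤ 2 := by
      by_contra hc
      have : 2 ^ 3 ≤ 2 ^ k := Nat.pow_le_pow_right two_pos (by omega)
      have := hle hk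
      omega
    have hxz4 : (x * z) ^ (2 * 2) = 1 := orderOf_dvd_iff_pow_eq_one.1 (hk ▸ pow_dvd_pow 2 hk2)
    have : orderOf (x * y) ≤ 2 := orderOf_le_of_pow_eq_one two_pos
      (by rw [← hsq, ← pow_two, ← pow_mul]; exact hxz4)
    omega
  · exfalso
    obtain ⟨hSn, -, -⟩ := Cfsg.Agent.S0949.result S n hn e hbot
    rcases hSn.eq_bot_or_eq_top with hS | hS
    · have hd := S.dvd_card_of_dvd_card (even_iff_two_dvd.1 heven)
      rw [hS, Subgroup.card_bot] at hd
      norm_num at hd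
    · refine hna ⟨⟨fun a b => ?_⟩⟩
      exact congrArg Subtype.val (e.injective (by rw [map_mul, map_mul, mul_comm]) :
        (⟨a, hS.ge (Subgroup.mem_top a)⟩ : (S : Subgroup G)) * ⟨b, hS.ge (Subgroup.mem_top b)⟩ =
          ⟨b, hS.ge (Subgroup.mem_top b)⟩ * ⟨a, hS.ge (Subgroup.mem_top a)⟩)
  · exfalso
    obtain ⟨t, ht, htW⟩ := hW
    obtain ⟨R, hR⟩ := (IsPGroup.of_card (p := 2) (n := 1)
      (show Nat.card (Subgroup.zpowers t) = 2 ^ 1 by rw [Nat.card_zpowers, ht, pow_one])).exists_le_sylow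
    set t' := R.equiv S ⟨t, hR (Subgroup.mem_zpowers t)⟩ with ht'
    have hto : orderOf t' = 2 := by rw [ht', MulEquiv.orderOf_eq, Subgroup.orderOf_mk, ht]
    have htW' : t' ∈ W := hU.2 t' (by rw [← pow_two]; exact orderOf_dvd_iff_pow_eq_one.1 hto.dvd)
    obtain ⟨v, v', hv, hv', hvv⟩ := exists_roots hU htW' (fun e => by rw [e, orderOf_one] at hto; omega)
    apply htW
    refine oddCore_eq_bot_of_roots h ht (v := ((R.equiv S).symm v : G))
      (v' := ((R.equiv S).symm v' : G)) ?_ ?_ ?_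
    · rw [← Subgroup.coe_mul, ← map_mul, hv, ht', MulEquiv.symm_apply_apply]
    · rw [← Subgroup.coe_mul, ← map_mul, hv', ht', MulEquiv.symm_apply_apply]
    · rw [← Subgroup.coe_mul, ← map_mul, Subgroup.orderOf_coe, MulEquiv.orderOf_eq]
      have hne2 : (v * v') * (v * v') ≠ 1 := fun e => hvv (hU.2 _ e)
      have h44 : (v * v') ^ 4 = 1 := by
        rw [show (4 : ℕ) = 2 * 2 from rfl, pow_mul, pow_two (v * v'), pow_two]
        exact hU.1.four.elem _ (hU.1.sq _)
      exact orderOf_eq_prime_pow (p := 2) (n := 1) (by rwa [pow_one, pow_two]) h44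

end CfsgLib.SpecSix
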